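import Cfsg.Prelude.Def_Spor_Fi24
import Cfsg.Agent.Lib.Presented.Index
import Cfsg.Agent.Lib.Presented.Y332
import Cfsg.Agent.Lib.Presented.Fi24.Rels

/-!
# Generators and relators of the presented group Fi24

`rels_one`: the words `closureRels` are trivial.  The last seven say that the ninth power of a Coxeter
element of the E7 subdiagram does not depend on the order of the generators.
-/

set_option autoImplicit false

namespace Cfsg.Agent.Presented.Fi24Base

open Cfsg.Spor Cfsg.Agent.Presented Fi24Table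

/-- The generators in table order. -/
def gens : List Fi24.Gen := [.l, .k, .a, .b, .c, .d, .e, .f, .g, .j, .h, .i]

theorem gens_all (x : Fi24.Gen) : x ∈ gens := by cases x <;> decide

theorem gens_nodup : gens.Nodup := by decide

theorem gens_ok : gensOK gens Fi24.edges = true := by decide +kernel

/-- The generators of Fi24 by number. -/
abbrev gen : ℕ → Fi24 := genFun gens Fi24.edges Fi24.extra

theorem gen_sq (g : ℕ) : gen g * gen g = 1 := genFun_mul_self gens_all gens_ok g

theorem gen_of {g : ℕ} (hg : g < 12) : gen g = PresentedGroup.of gens[g] := dif_pos hg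

/-- The E7 subdiagram in the numbering of `E7.edges7`. -/
def e7Idx : List ℕ := [7, 6, 5, 4, 3, 2, 10]

/-- The generators of the E7 subdiagram. -/
noncomputable def s7 (i : Fin 7) : Fi24 := gen (e7Idx.getD i 0)

theorem pair_rel {x y : ℕ} (hx : x < 12) (hy : y < 12) :
    (gen x * gen y) ^ coxLabel Fi24.edges (gens[x]'hx) (gens[y]'hy) = 1 := by
  have hr := PresentedGroup.one_of_mem (rels := coxRelators Fi24.edges ∪ {r | r ∈ Fi24.extra})
    (x := (FreeGroup.of gens[x] * FreeGroup.of gens[y]) ^ coxLabel Fi24.edges gens[x] gens[y])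
    (Or.inl ⟨_, node_of_gensOK gens_all gens_ok _, _, node_of_gensOK gens_all gens_ok _, rfl⟩)
  rw [map_pow, map_mul] at hr
  rw [gen_of hx, gen_of hy]
  exact hr

theorem s7_rels (i j : Fin 7) : (s7 i * s7 j) ^ coxLabel E7.edges7 i j = 1 := by
  have hb : ∀ i : Fin 7, e7Idx.getD i 0 < 12 := by decide
  have hl : ∀ i j : Fin 7, coxLabel E7.edges7 i j =
      coxLabel Fi24.edges (gens.getD (e7Idx.getD i 0) .l) (gens.getD (e7Idx.getD j 0) .l) := by decide +kernel
  rw [hl, List.getD_eq_getElem gens _ (hb i), List.getD_eq_getElem gens _ (hb j)]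
  exact pair_rel (hb i) (hb j)

/-- A word with the number of each letter in the E7 subdiagram. -/
def toE7 (w : List ℕ) : List ℕ := w.map fun g => e7Idx.idxOf g

theorem ev_toE7 {w : List ℕ} (h : ∀ g ∈ w, g ∈ e7Idx) : Y332.ev s7 (toE7 w) = wval gen w := by
  rw [Y332.ev]
  induction w with
  | nil => rfl
  | cons g w ih =>
    rw [toE7, List.map_cons, wval, wval, ← ih fun x hx => h x (List.mem_cons_of_mem _ hx)]
    congr 1
    have key : ∀ g ∈ e7Idx, s7 (Fin.ofNat 7 (e7Idx.idxOf g)) = gen g := by
      intro g hg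
      have hv : ∀ g ∈ e7Idx, e7Idx.getD ((Fin.ofNat 7 (e7Idx.idxOf g) : Fin 7) : ℕ) 0 = g := by decide +kernel
      rw [s7, hv g hg]
    exact key g (h g List.mem_cons_self)

theorem short_one : ∀ w ∈ relNine :: relsShort ++ [relSeventeen], wval gen w = 1 :=
  wval_rot gens_all gens_ok (by decide +kernel)

theorem seven_one : ∀ w ∈ relsSeven, wval gen w = 1 := by
  intro w hw
  have hc : ∀ w ∈ relsSeven, w.head? = some 0 ∧
      Y332.same7 (toE7 w.tail) (toE7 relNine.tail) = true ∧ ∀ g ∈ w.tail, g ∈ e7Idx := by decide +kernel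
  have hn : ∀ g ∈ relNine.tail, g ∈ e7Idx := by decide +kernel
  obtain ⟨h1, h2, h3⟩ := hc w hw
  have e := Y332.ev_same7 s7_rels h2
  rw [ev_toE7 h3, ev_toE7 hn] at e
  obtain ⟨t, rfl⟩ : ∃ t, w = 0 :: t := by
    cases w with
    | nil => simp at h1
    | cons a t => exact ⟨t, by simpa using h1⟩
  rw [List.tail_cons] at e
  rw [wval, e]
  exact short_one relNine List.mem_cons_self

/-- The relators used by the certificate are trivial. -/
theorem rels_one : ∀ w ∈ closureRels, (∀ g ∈ w, g < 12) ∧ wval gen w = 1 := by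
  have h : ∀ w ∈ closureRels, (∀ g ∈ w, g < 12) ∧
      (w ∈ relNine :: relsShort ++ [relSeventeen] ∨ w ∈ relsSeven) := by decide +kernel
  intro w hw
  obtain ⟨h1, h2⟩ := h w hw
  exact ⟨h1, h2.elim (short_one w) (seven_one w)⟩

end Cfsg.Agent.Presented.Fi24Base
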