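import Cfsg.Agent.Lib.Presented.Table

/-! Masks stored in chunks. -/

set_option autoImplicit false

namespace Cfsg.Agent.Presented.Fi24Table

/-- Join chunks of `16384` bits, lowest first. -/
noncomputable def join (l : List ℕ) : ℕ :=
  List.rec (motive := fun _ => ℕ) 0 (fun a _ ih => Nat.lor a (Nat.shiftLeft ih 16384)) l

end Cfsg.Agent.Presented.Fi24Table
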