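import Cfsg.Agent.Lib.Presented.BitClosure
import Cfsg.Agent.Lib.Presented.Fi24.Chunks

/-! Generated: the first and last states in closing the table of cosets in Fi24. -/

set_option autoImplicit false
set_option maxRecDepth 100000

namespace Cfsg.Agent.Presented.Fi24Table

open BitClosure (St Op)

/-- All points of the table. -/
noncomputable def fullMask : ℕ := Nat.sub (Nat.pow 2 306936) 1

/-- State 0. -/
noncomputable def state0 : St :=
  BitClosure.init 306912 [true, false, true, true, true, true, true, true, true, true, true, true]

/-- State 13, in which all is known. -/
noncomputable def state13 : St :=
  ⟨fullMask, List.replicate 12 fullMask⟩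

end Cfsg.Agent.Presented.Fi24Table
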