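import Cfsg.Agent.Lib.Presented.Fi24.Nets
import Cfsg.Agent.Lib.Presented.Fi24.Rels
import Cfsg.Agent.Lib.Presented.Fi24.Init
import Cfsg.Agent.Lib.Presented.Fi24.State1

/-! Generated: steps 0 of closing the table of cosets in Fi24. -/

set_option autoImplicit false
set_option maxRecDepth 100000

namespace Cfsg.Agent.Presented.Fi24Table

open BitClosure (St Op)

/-- Steps. -/
def ops0_0 : List Op :=
  [.defn 1,
   .defn 0,
   .defn 2,
   .defn 3,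
   .defn 4,
   .defn 1,
   .defn 5,
   .defn 6,
   .defn 10,
   .defn 5,
   .defn 11,
   .defn 4,
   .defn 2,
   .defn 3,
   .defn 10,
   .defn 5,
   .defn 7,
   .defn 6,
   .defn 8,
   .defn 2,
   .defn 1,
   .defn 5,
   .defn 4,
   .defn 7,
   .defn 5,
   .defn 8,
   .defn 6,
   .defn 5,
   .defn 10,
   .defn 11,
   .defn 5,
   .defn 10,
   .defn 3,
   .defn 7,
   .defn 6,
   .defn 2,
   .defn 7,
   .defn 4,
   .defn 3,
   .defn 1,
   .defn 0,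
   .defn 2,
   .defn 9,
   .defn 1,
   .defn 8,
   .defn 5,
   .defn 10,
   .defn 6,
   .defn 4,
   .defn 3,
   .defn 2,
   .defn 5,
   .defn 7,
   .defn 6,
   .defn 5,
   .defn 10,
   .defn 8,
   .defn 7,
   .defn 11,
   .defn 4,
   .defn 3,
   .defn 5,
   .defn 4,
   .defn 8,
   .defn 6,
   .defn 10,
   .defn 7,
   .defn 8,
   .defn 5,
   .defn 4,
   .defn 9,
   .defn 6,
   .defn 2,
   .defn 7,
   .defn 10,
   .defn 1,
   .defn 3,
   .rel 1 0,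
   .rel 22 0,
   .rel 22 1,
   .rel 24 1,
   .rel 39 0,
   .rel 39 1,
   .rel 28 1,
   .rel 41 0,
   .rel 41 1,
   .rel 43 0,
   .rel 43 1,
   .rel 52 0,
   .rel 54 0,
   .rel 54 1,
   .rel 61 1,
   .rel 8 0,
   .rel 23 0,
   .rel 27 0,
   .rel 40 0,
   .rel 40 1,
   .rel 42 0,
   .rel 44 1,
   .rel 32 1]

/-- Steps. -/
def ops0_1 : List Op :=
  [.rel 53 0,
   .rel 47 1,
   .rel 36 1,
   .rel 58 1,
   .rel 51 1,
   .rel 31 0,
   .rel 37 1,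
   .rel 46 0,
   .rel 46 1,
   .rel 50 1,
   .rel 22 0,
   .rel 22 1,
   .rel 7 0,
   .rel 24 0,
   .rel 24 1,
   .rel 26 0,
   .rel 39 0,
   .rel 28 0,
   .rel 28 1,
   .rel 41 0,
   .rel 41 1,
   .rel 52 0,
   .rel 52 1,
   .rel 54 1,
   .rel 61 0,
   .rel 61 1,
   .rel 6 0,
   .rel 23 0,
   .rel 25 0,
   .rel 40 0,
   .rel 40 1,
   .rel 44 1,
   .rel 32 0,
   .rel 55 1,
   .rel 34 1,
   .rel 47 1,
   .rel 62 0,
   .rel 36 0,
   .rel 58 0,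
   .rel 63 1,
   .rel 38 1,
   .rel 45 0,
   .rel 45 1,
   .rel 49 0,
   .rel 33 0,
   .rel 33 1,
   .rel 46 1,
   .rel 50 0,
   .rel 59 0,
   .rel 5 0,
   .rel 22 0,
   .rel 24 0,
   .rel 26 0,
   .rel 26 1,
   .rel 39 0,
   .rel 39 1,
   .rel 28 0,
   .rel 28 1,
   .rel 41 1,
   .rel 43 1,
   .rel 52 1,
   .rel 54 0,
   .rel 61 0,
   .rel 61 1,
   .rel 4 0,
   .rel 23 0,
   .rel 25 0,
   .rel 25 1,
   .rel 29 1,
   .rel 40 1,
   .rel 32 0,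
   .rel 32 1,
   .rel 55 0,
   .rel 58 1,
   .rel 38 0,
   .rel 45 0,
   .rel 51 0,
   .rel 3 0,
   .rel 5 0,
   .rel 22 0,
   .rel 24 0,
   .rel 24 1,
   .rel 9 0,
   .rel 26 0,
   .rel 39 0,
   .rel 28 0,
   .rel 43 0,
   .rel 52 0,
   .rel 54 0,
   .rel 54 1,
   .rel 2 0,
   .rel 4 0,
   .rel 6 0,
   .rel 10 0,
   .rel 23 0,
   .rel 29 0,
   .rel 3 0,
   .rel 5 0,
   .rel 24 0,
   .rel 9 0]

/-- Steps. -/
def ops0_2 : List Op :=
  [.rel 41 0,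
   .rel 2 0,
   .rel 4 0,
   .rel 6 0,
   .rel 30 0,
   .rel 1 0,
   .rel 3 0,
   .rel 5 0,
   .rel 7 0,
   .rel 28 0,
   .rel 23 1,
   .rel 25 0,
   .rel 17 0,
   .rel 34 0,
   .rel 47 0,
   .rel 58 0,
   .rel 21 1,
   .rel 14 0,
   .rel 16 0,
   .rel 31 0,
   .rel 35 0,
   .rel 46 0,
   .rel 48 1,
   .rel 59 1,
   .rel 24 0,
   .rel 13 0,
   .rel 15 0,
   .rel 15 1,
   .rel 53 1,
   .rel 34 0,
   .rel 19 0,
   .rel 36 0,
   .rel 63 0,
   .rel 30 1,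
   .rel 51 1,
   .rel 12 0,
   .rel 12 1,
   .rel 14 0,
   .rel 16 0,
   .rel 18 0,
   .rel 18 1,
   .rel 33 0,
   .rel 35 0,
   .rel 5 1,
   .rel 22 1,
   .rel 24 1,
   .rel 43 1,
   .rel 2 1,
   .rel 13 0,
   .rel 13 1,
   .rel 40 0,
   .rel 42 1,
   .rel 15 0,
   .rel 32 0,
   .rel 53 0,
   .rel 17 0,
   .rel 34 0,
   .rel 19 0,
   .rel 19 1,
   .rel 36 1,
   .rel 11 1,
   .rel 38 1,
   .rel 49 0,
   .rel 49 1,
   .rel 12 0,
   .rel 14 0,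
   .rel 16 0,
   .rel 20 0]

/-- The steps of segment 0. -/
def ops0 : List Op :=
  ops0_0 ++ ops0_1 ++ ops0_2

theorem ops0_ok : BitClosure.opsOK 12 ops0 = true := by decide +kernel

theorem seg0 : BitClosure.eqSt (BitClosure.run nets closureRels ops0 state0) state1 = true := by
  decide +kernel

end Cfsg.Agent.Presented.Fi24Table
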