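import Cfsg.Agent.Lib.Presented.Fi24.Nets
import Cfsg.Agent.Lib.Presented.Fi24.Rels
import Cfsg.Agent.Lib.Presented.Fi24.Init
import Cfsg.Agent.Lib.Presented.Fi24.State1
import Cfsg.Agent.Lib.Presented.Fi24.State2

/-! Generated: steps 1 of closing the table of cosets in Fi24. -/

set_option autoImplicit false
set_option maxRecDepth 100000

namespace Cfsg.Agent.Presented.Fi24Table

open BitClosure (St Op)

/-- Steps. -/
def ops1_0 : List Op :=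
  [.rel 31 0,
   .rel 31 1,
   .rel 33 0,
   .rel 46 1,
   .rel 48 1,
   .rel 57 0,
   .rel 3 1,
   .rel 22 1,
   .rel 24 1,
   .rel 9 1,
   .rel 39 0,
   .rel 39 1,
   .rel 28 1,
   .rel 41 0,
   .rel 43 1,
   .rel 52 0,
   .rel 54 1,
   .rel 23 1,
   .rel 25 0,
   .rel 13 0,
   .rel 40 0,
   .rel 15 0,
   .rel 32 0,
   .rel 19 0,
   .rel 19 1,
   .rel 36 0,
   .rel 36 1,
   .rel 58 0,
   .rel 58 1,
   .rel 11 1,
   .rel 21 0,
   .rel 30 1,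
   .rel 38 1,
   .rel 45 0,
   .rel 45 1,
   .rel 51 1,
   .rel 49 0,
   .rel 14 0,
   .rel 16 1,
   .rel 31 0,
   .rel 37 0,
   .rel 50 0,
   .rel 1 1,
   .rel 5 1,
   .rel 22 0,
   .rel 22 1,
   .rel 9 1,
   .rel 26 0,
   .rel 39 0,
   .rel 39 1,
   .rel 28 1,
   .rel 43 1,
   .rel 54 0,
   .rel 61 1,
   .rel 23 0,
   .rel 25 1,
   .rel 13 0,
   .rel 40 1,
   .rel 44 0,
   .rel 15 1,
   .rel 32 1,
   .rel 55 0,
   .rel 17 0,
   .rel 19 0,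
   .rel 36 0,
   .rel 11 1,
   .rel 30 1,
   .rel 38 0,
   .rel 38 1,
   .rel 45 0,
   .rel 51 1,
   .rel 56 1,
   .rel 12 0,
   .rel 14 0,
   .rel 20 0,
   .rel 37 0,
   .rel 46 1,
   .rel 3 1,
   .rel 5 1,
   .rel 22 1,
   .rel 7 1,
   .rel 24 0,
   .rel 24 1,
   .rel 39 0,
   .rel 39 1,
   .rel 28 0,
   .rel 41 0,
   .rel 43 0,
   .rel 52 0,
   .rel 52 1,
   .rel 54 0,
   .rel 61 1,
   .rel 6 1,
   .rel 29 0,
   .rel 13 0,
   .rel 13 1,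
   .rel 40 0,
   .rel 15 0,
   .rel 55 0,
   .rel 34 1]

/-- Steps. -/
def ops1_1 : List Op :=
  [.rel 47 1,
   .rel 19 0,
   .rel 58 0,
   .rel 30 0,
   .rel 38 1,
   .rel 49 1,
   .rel 16 0,
   .rel 33 1,
   .rel 59 0,
   .rel 1 1,
   .rel 3 1,
   .rel 22 0,
   .rel 26 0,
   .rel 26 1,
   .rel 39 0,
   .rel 41 0,
   .rel 41 1,
   .rel 54 1,
   .rel 61 0,
   .rel 40 1,
   .rel 17 1,
   .rel 34 1,
   .rel 47 1,
   .rel 62 0,
   .rel 51 0,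
   .rel 56 0,
   .rel 65 1,
   .rel 7 1,
   .rel 26 1,
   .rel 41 1,
   .rel 52 0,
   .rel 52 1,
   .rel 61 0,
   .rel 45 0,
   .rel 41 0,
   .rel 9 0,
   .rel 25 1,
   .rel 42 0,
   .rel 34 0,
   .rel 19 1,
   .rel 36 1,
   .rel 63 1,
   .rel 11 1,
   .rel 21 1,
   .rel 16 1,
   .rel 35 1,
   .rel 46 1,
   .rel 48 0,
   .rel 50 1,
   .rel 64 1,
   .rel 1 1,
   .rel 9 1,
   .rel 28 1,
   .rel 41 0,
   .rel 43 1,
   .rel 61 1,
   .rel 27 0,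
   .rel 27 1,
   .rel 42 1,
   .rel 44 1,
   .rel 53 1,
   .rel 55 1,
   .rel 47 0,
   .rel 62 1,
   .rel 58 1,
   .rel 65 1,
   .rel 20 1,
   .rel 37 1,
   .rel 46 0,
   .rel 57 1,
   .rel 59 1,
   .rel 26 0,
   .rel 54 1,
   .rel 61 0,
   .rel 4 1,
   .rel 10 1,
   .rel 25 0,
   .rel 29 1,
   .rel 44 1,
   .rel 55 1,
   .rel 62 0,
   .rel 62 1,
   .rel 45 1,
   .rel 56 0,
   .rel 49 0,
   .rel 20 1,
   .rel 50 0,
   .rel 50 1,
   .rel 24 0,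
   .rel 39 1,
   .rel 54 0,
   .rel 61 0,
   .rel 23 0,
   .rel 40 0,
   .rel 44 1,
   .rel 32 1,
   .rel 55 1,
   .rel 47 1,
   .rel 11 0,
   .rel 21 1]

/-- Steps. -/
def ops1_2 : List Op :=
  [.rel 51 1,
   .rel 65 0,
   .rel 37 1,
   .rel 50 1,
   .rel 59 1,
   .rel 22 0,
   .rel 24 0,
   .rel 39 0,
   .rel 28 0,
   .rel 41 1,
   .rel 52 0,
   .rel 52 1,
   .rel 61 0,
   .rel 29 1,
   .rel 44 1,
   .rel 55 1,
   .rel 17 1,
   .rel 34 1,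
   .rel 47 1,
   .rel 36 1,
   .rel 58 1,
   .rel 11 0,
   .rel 49 0,
   .rel 65 0,
   .rel 41 1,
   .rel 52 1,
   .rel 61 0,
   .rel 61 1,
   .rel 34 1,
   .rel 38 0,
   .rel 39 0,
   .rel 30 0,
   .rel 24 1,
   .rel 10 0,
   .rel 29 0,
   .rel 53 1,
   .rel 17 0,
   .rel 47 1,
   .rel 21 0,
   .rel 21 1,
   .rel 30 1,
   .rel 60 1,
   .rel 12 0,
   .rel 12 1,
   .rel 14 0,
   .rel 31 0,
   .rel 35 1,
   .rel 57 0]

/-- The steps of segment 1. -/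
def ops1 : List Op :=
  ops1_0 ++ ops1_1 ++ ops1_2

theorem ops1_ok : BitClosure.opsOK 12 ops1 = true := by decide +kernel

theorem seg1 : BitClosure.eqSt (BitClosure.run nets closureRels ops1 state1) state2 = true := by
  decide +kernel

end Cfsg.Agent.Presented.Fi24Table
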