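import Cfsg.Agent.Lib.Presented.Fi24.Nets
import Cfsg.Agent.Lib.Presented.Fi24.Rels
import Cfsg.Agent.Lib.Presented.Fi24.Init
import Cfsg.Agent.Lib.Presented.Fi24.State10
import Cfsg.Agent.Lib.Presented.Fi24.State11

/-! Generated: steps 10 of closing the table of cosets in Fi24. -/

set_option autoImplicit false
set_option maxRecDepth 100000

namespace Cfsg.Agent.Presented.Fi24Table

open BitClosure (St Op)

/-- Steps. -/
def ops10_0 : List Op :=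
  [.rel 31 0,
   .rel 32 0,
   .rel 23 1,
   .rel 6 0,
   .rel 13 1,
   .rel 17 0,
   .rel 12 1,
   .rel 27 1,
   .rel 0 1,
   .rel 51 1,
   .rel 57 1,
   .rel 40 0,
   .rel 71 9,
   .rel 22 1,
   .rel 41 0,
   .rel 13 1,
   .rel 44 0,
   .rel 3 0,
   .rel 22 1,
   .rel 9 0,
   .rel 43 0,
   .rel 4 0,
   .rel 6 0,
   .rel 40 0,
   .rel 40 1,
   .rel 30 0,
   .rel 51 1,
   .rel 56 1,
   .rel 33 1,
   .rel 46 1,
   .rel 1 0,
   .rel 3 1,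
   .rel 5 0,
   .rel 7 0,
   .rel 7 1,
   .rel 9 0,
   .rel 39 0,
   .rel 41 1,
   .rel 52 1,
   .rel 2 0,
   .rel 4 0,
   .rel 6 0,
   .rel 40 1,
   .rel 34 1,
   .rel 47 1,
   .rel 58 1,
   .rel 0 0,
   .rel 38 1,
   .rel 49 1,
   .rel 31 1,
   .rel 1 0,
   .rel 3 0,
   .rel 3 1,
   .rel 5 0,
   .rel 5 1,
   .rel 7 0,
   .rel 7 1,
   .rel 9 0,
   .rel 9 1,
   .rel 26 1,
   .rel 39 0,
   .rel 41 1,
   .rel 43 0,
   .rel 52 1,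
   .rel 54 1,
   .rel 61 0,
   .rel 2 0,
   .rel 2 1,
   .rel 4 0,
   .rel 6 0,
   .rel 6 1,
   .rel 10 0,
   .rel 13 1,
   .rel 40 0,
   .rel 34 1,
   .rel 47 0,
   .rel 47 1,
   .rel 62 0,
   .rel 36 1,
   .rel 58 1,
   .rel 0 0,
   .rel 30 0,
   .rel 38 0,
   .rel 56 0,
   .rel 56 1,
   .rel 60 1,
   .rel 1 0,
   .rel 1 1,
   .rel 3 0,
   .rel 3 1,
   .rel 5 0,
   .rel 5 1,
   .rel 22 1,
   .rel 7 0,
   .rel 7 1,
   .rel 9 0,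
   .rel 9 1,
   .rel 26 1,
   .rel 39 0,
   .rel 28 1]

/-- Steps. -/
def ops10_1 : List Op :=
  [.rel 41 0,
   .rel 41 1,
   .rel 43 0,
   .rel 43 1,
   .rel 52 0,
   .rel 52 1,
   .rel 54 0,
   .rel 54 1,
   .rel 61 0,
   .rel 61 1,
   .rel 2 0,
   .rel 2 1,
   .rel 4 0,
   .rel 4 1,
   .rel 6 0,
   .rel 6 1,
   .rel 8 0,
   .rel 34 1,
   .rel 47 1,
   .rel 62 1,
   .rel 19 1,
   .rel 36 1,
   .rel 30 0,
   .rel 38 1,
   .rel 51 1,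
   .rel 49 1,
   .rel 65 1,
   .rel 31 1,
   .rel 1 0,
   .rel 1 1,
   .rel 3 0,
   .rel 3 1,
   .rel 5 0,
   .rel 5 1,
   .rel 22 0,
   .rel 7 0,
   .rel 7 1,
   .rel 24 0,
   .rel 9 0,
   .rel 9 1,
   .rel 26 1,
   .rel 39 0,
   .rel 28 1,
   .rel 41 1,
   .rel 43 1,
   .rel 52 1,
   .rel 54 1,
   .rel 61 0,
   .rel 6 0,
   .rel 8 1,
   .rel 23 0,
   .rel 62 0,
   .rel 36 1,
   .rel 21 0,
   .rel 60 0,
   .rel 1 0,
   .rel 1 1,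
   .rel 5 0,
   .rel 22 0,
   .rel 7 0,
   .rel 7 1,
   .rel 9 0,
   .rel 26 0,
   .rel 26 1,
   .rel 28 1,
   .rel 41 1,
   .rel 43 1,
   .rel 52 0,
   .rel 52 1,
   .rel 61 0,
   .rel 17 1,
   .rel 34 1,
   .rel 47 0,
   .rel 47 1,
   .rel 56 0,
   .rel 56 1,
   .rel 60 0,
   .rel 60 1,
   .rel 65 1,
   .rel 57 0,
   .rel 1 0,
   .rel 3 1,
   .rel 5 0,
   .rel 7 0,
   .rel 7 1,
   .rel 9 0,
   .rel 9 1,
   .rel 26 1,
   .rel 41 0,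
   .rel 41 1,
   .rel 43 0,
   .rel 52 0,
   .rel 52 1,
   .rel 61 0,
   .rel 61 1,
   .rel 2 1,
   .rel 4 1,
   .rel 6 0,
   .rel 6 1,
   .rel 8 0]

/-- Steps. -/
def ops10_2 : List Op :=
  [.rel 8 1,
   .rel 23 1,
   .rel 40 0,
   .rel 42 0,
   .rel 42 1,
   .rel 53 1,
   .rel 17 1,
   .rel 34 0,
   .rel 34 1,
   .rel 47 0,
   .rel 47 1,
   .rel 62 0,
   .rel 62 1,
   .rel 58 1,
   .rel 30 0,
   .rel 38 0,
   .rel 38 1,
   .rel 45 0,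
   .rel 51 1,
   .rel 56 0,
   .rel 56 1,
   .rel 60 0,
   .rel 60 1,
   .rel 49 1,
   .rel 65 1,
   .rel 31 0,
   .rel 33 0,
   .rel 35 0,
   .rel 46 0,
   .rel 46 1,
   .rel 57 0,
   .rel 57 1,
   .rel 1 0,
   .rel 1 1,
   .rel 3 0,
   .rel 3 1,
   .rel 5 0,
   .rel 5 1,
   .rel 22 0,
   .rel 22 1,
   .rel 7 0,
   .rel 7 1,
   .rel 24 0,
   .rel 9 0,
   .rel 9 1,
   .rel 26 0,
   .rel 26 1,
   .rel 39 0,
   .rel 28 0,
   .rel 28 1,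
   .rel 41 0,
   .rel 41 1,
   .rel 43 0,
   .rel 43 1,
   .rel 52 0,
   .rel 52 1,
   .rel 54 0,
   .rel 54 1,
   .rel 61 0,
   .rel 61 1,
   .rel 2 0,
   .rel 2 1,
   .rel 4 0,
   .rel 4 1,
   .rel 6 0,
   .rel 6 1,
   .rel 8 0,
   .rel 8 1,
   .rel 10 0,
   .rel 10 1,
   .rel 23 0,
   .rel 25 0,
   .rel 25 1,
   .rel 27 0,
   .rel 40 0,
   .rel 40 1,
   .rel 42 0,
   .rel 42 1,
   .rel 44 0,
   .rel 44 1,
   .rel 32 0,
   .rel 32 1,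
   .rel 53 0,
   .rel 53 1,
   .rel 55 0,
   .rel 55 1,
   .rel 17 1,
   .rel 34 0,
   .rel 34 1,
   .rel 47 0,
   .rel 47 1,
   .rel 62 0,
   .rel 62 1,
   .rel 19 1,
   .rel 36 0,
   .rel 36 1,
   .rel 58 0,
   .rel 58 1,
   .rel 63 1,
   .rel 0 0]

/-- Steps. -/
def ops10_3 : List Op :=
  [.rel 21 0,
   .rel 30 0,
   .rel 30 1]

/-- The steps of segment 10. -/
def ops10 : List Op :=
  ops10_0 ++ ops10_1 ++ ops10_2 ++ ops10_3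

theorem ops10_ok : BitClosure.opsOK 12 ops10 = true := by decide +kernel

theorem seg10 : BitClosure.eqSt (BitClosure.run nets closureRels ops10 state10) state11 = true := by
  decide +kernel

end Cfsg.Agent.Presented.Fi24Table
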