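import Cfsg.Agent.Lib.Presented.Fi24.Nets
import Cfsg.Agent.Lib.Presented.Fi24.Rels
import Cfsg.Agent.Lib.Presented.Fi24.Init
import Cfsg.Agent.Lib.Presented.Fi24.State12

/-! Generated: steps 12 of closing the table of cosets in Fi24. -/

set_option autoImplicit false
set_option maxRecDepth 100000

namespace Cfsg.Agent.Presented.Fi24Table

open BitClosure (St Op)

/-- Steps. -/
def ops12_0 : List Op :=
  [.rel 21 0,
   .rel 30 0,
   .rel 30 1,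
   .rel 38 1,
   .rel 45 1,
   .rel 51 1,
   .rel 49 0,
   .rel 31 1,
   .rel 50 0,
   .rel 1 1,
   .rel 3 1,
   .rel 5 1,
   .rel 22 0,
   .rel 22 1,
   .rel 24 0,
   .rel 24 1,
   .rel 26 0,
   .rel 26 1,
   .rel 39 1,
   .rel 28 0,
   .rel 28 1,
   .rel 43 1,
   .rel 54 0,
   .rel 54 1,
   .rel 23 0,
   .rel 23 1,
   .rel 25 0,
   .rel 25 1,
   .rel 27 0,
   .rel 29 0,
   .rel 15 1,
   .rel 32 1,
   .rel 36 1,
   .rel 58 0,
   .rel 58 1,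
   .rel 11 1,
   .rel 21 0,
   .rel 21 1,
   .rel 30 1,
   .rel 38 0,
   .rel 45 0,
   .rel 51 1,
   .rel 56 0,
   .rel 56 1,
   .rel 60 1,
   .rel 49 0,
   .rel 49 1,
   .rel 65 0,
   .rel 31 0,
   .rel 46 0,
   .rel 57 0,
   .rel 1 1,
   .rel 3 1,
   .rel 5 1,
   .rel 22 0,
   .rel 22 1,
   .rel 24 0,
   .rel 24 1,
   .rel 26 0,
   .rel 26 1,
   .rel 39 0,
   .rel 28 0,
   .rel 28 1,
   .rel 43 0,
   .rel 43 1,
   .rel 54 0,
   .rel 54 1,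
   .rel 23 0,
   .rel 23 1,
   .rel 25 1,
   .rel 32 0,
   .rel 36 0,
   .rel 11 0,
   .rel 38 0,
   .rel 22 0,
   .rel 24 0,
   .rel 24 1,
   .rel 26 1,
   .rel 39 0,
   .rel 28 1,
   .rel 28 0,
   .rel 26 0,
   .rel 43 0,
   .rel 25 1,
   .rel 27 1,
   .rel 40 0,
   .rel 47 0,
   .rel 21 1,
   .rel 48 0,
   .rel 41 0,
   .rel 39 0,
   .rel 1 1,
   .rel 22 0,
   .rel 25 0,
   .rel 47 1,
   .rel 19 1,
   .rel 30 0,
   .rel 38 1,
   .rel 16 0,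
   .rel 33 0]

/-- Steps. -/
def ops12_1 : List Op :=
  [.rel 24 1,
   .rel 9 1,
   .rel 26 0,
   .rel 26 1,
   .rel 41 1,
   .rel 54 0,
   .rel 61 0,
   .rel 28 1,
   .rel 23 1,
   .rel 17 1,
   .rel 47 0,
   .rel 36 1,
   .rel 58 0,
   .rel 51 1,
   .rel 7 0,
   .rel 7 1,
   .rel 61 0,
   .rel 60 1,
   .rel 24 0,
   .rel 26 1,
   .rel 41 0,
   .rel 17 0,
   .rel 34 0,
   .rel 5 0,
   .rel 22 0,
   .rel 52 1,
   .rel 15 0,
   .rel 62 1,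
   .rel 39 1,
   .rel 13 1,
   .rel 49 0,
   .rel 3 1,
   .rel 27 1,
   .rel 40 1,
   .rel 15 1,
   .rel 32 0,
   .rel 5 1,
   .rel 12 1,
   .rel 2 0,
   .rel 10 1,
   .rel 51 1,
   .rel 31 1,
   .rel 7 1,
   .rel 42 1,
   .rel 19 0,
   .rel 67 12,
   .rel 9 1,
   .rel 28 1,
   .rel 43 1,
   .rel 54 1,
   .rel 61 1,
   .rel 49 0,
   .rel 65 1,
   .rel 38 0,
   .rel 45 1,
   .rel 39 0,
   .rel 39 1,
   .rel 30 0,
   .rel 51 1,
   .rel 21 0,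
   .rel 56 1,
   .rel 32 1,
   .rel 36 1,
   .rel 11 0,
   .rel 45 0,
   .rel 60 1,
   .rel 24 1,
   .rel 39 1,
   .rel 28 1,
   .rel 43 1,
   .rel 23 0,
   .rel 13 1,
   .rel 40 0,
   .rel 30 0,
   .rel 51 1,
   .rel 65 1,
   .rel 3 1,
   .rel 22 0,
   .rel 22 1,
   .rel 24 0,
   .rel 28 0,
   .rel 25 0,
   .rel 47 1,
   .rel 11 0,
   .rel 21 1,
   .rel 38 1,
   .rel 46 1,
   .rel 50 1,
   .rel 52 1,
   .rel 61 0,
   .rel 34 1,
   .rel 60 1,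
   .rel 63 1,
   .rel 31 1,
   .rel 15 1,
   .rel 12 1,
   .rel 12 0,
   .rel 57 1,
   .rel 39 0,
   .rel 61 1]

/-- Steps. -/
def ops12_2 : List Op :=
  [.rel 40 1,
   .rel 44 1,
   .rel 58 0,
   .rel 23 1]

/-- The steps of segment 12. -/
def ops12 : List Op :=
  ops12_0 ++ ops12_1 ++ ops12_2

theorem ops12_ok : BitClosure.opsOK 12 ops12 = true := by decide +kernel

theorem seg12 : BitClosure.eqSt (BitClosure.run nets closureRels ops12 state12) state13 = true := by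
  decide +kernel

end Cfsg.Agent.Presented.Fi24Table
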