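import Cfsg.Agent.Lib.Presented.Fi24.Nets
import Cfsg.Agent.Lib.Presented.Fi24.Rels
import Cfsg.Agent.Lib.Presented.Fi24.Init
import Cfsg.Agent.Lib.Presented.Fi24.State2
import Cfsg.Agent.Lib.Presented.Fi24.State3

/-! Generated: steps 2 of closing the table of cosets in Fi24. -/

set_option autoImplicit false
set_option maxRecDepth 100000

namespace Cfsg.Agent.Presented.Fi24Table

open BitClosure (St Op)

/-- Steps. -/
def ops2_0 : List Op :=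
  [.rel 26 1,
   .rel 41 1,
   .rel 52 1,
   .rel 23 0,
   .rel 13 0,
   .rel 15 0,
   .rel 11 0,
   .rel 22 0,
   .rel 24 0,
   .rel 28 0,
   .rel 25 0,
   .rel 11 0,
   .rel 24 0,
   .rel 26 0,
   .rel 21 1,
   .rel 30 1,
   .rel 38 1,
   .rel 22 1,
   .rel 9 0,
   .rel 39 1,
   .rel 40 1,
   .rel 15 1,
   .rel 62 1,
   .rel 58 0,
   .rel 51 0,
   .rel 56 0,
   .rel 12 0,
   .rel 48 1,
   .rel 57 1,
   .rel 5 1,
   .rel 52 0,
   .rel 32 0,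
   .rel 53 1,
   .rel 45 0,
   .rel 48 1,
   .rel 42 1,
   .rel 63 0,
   .rel 64 0,
   .rel 24 1,
   .rel 2 0,
   .rel 6 0,
   .rel 29 0,
   .rel 55 0,
   .rel 19 0,
   .rel 49 1,
   .rel 14 0,
   .rel 14 1,
   .rel 18 0,
   .rel 20 0,
   .rel 46 1,
   .rel 1 0,
   .rel 3 0,
   .rel 5 0,
   .rel 43 1,
   .rel 13 0,
   .rel 15 0,
   .rel 17 0,
   .rel 19 0,
   .rel 11 1,
   .rel 16 0,
   .rel 20 0,
   .rel 1 1,
   .rel 25 0,
   .rel 29 0,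
   .rel 15 0,
   .rel 21 1,
   .rel 12 0,
   .rel 12 1,
   .rel 14 0,
   .rel 31 0,
   .rel 24 0,
   .rel 26 0,
   .rel 23 0,
   .rel 15 0,
   .rel 32 0,
   .rel 17 0,
   .rel 19 0,
   .rel 36 0,
   .rel 11 1,
   .rel 21 1,
   .rel 30 1,
   .rel 20 0,
   .rel 33 0,
   .rel 1 1,
   .rel 3 1,
   .rel 22 0,
   .rel 22 1,
   .rel 24 0,
   .rel 41 0,
   .rel 23 0,
   .rel 25 0,
   .rel 29 0,
   .rel 13 0,
   .rel 40 0,
   .rel 11 0,
   .rel 21 1,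
   .rel 38 1,
   .rel 45 1,
   .rel 12 1,
   .rel 31 1]

/-- Steps. -/
def ops2_1 : List Op :=
  [.rel 22 0,
   .rel 24 0,
   .rel 26 0,
   .rel 39 0,
   .rel 39 1,
   .rel 28 0,
   .rel 27 0,
   .rel 11 0,
   .rel 21 1,
   .rel 30 1,
   .rel 12 0,
   .rel 3 1,
   .rel 26 0,
   .rel 41 0,
   .rel 7 0,
   .rel 25 0,
   .rel 13 1,
   .rel 40 1,
   .rel 34 0,
   .rel 36 1,
   .rel 38 1,
   .rel 49 1,
   .rel 65 1,
   .rel 57 0,
   .rel 3 1,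
   .rel 22 1,
   .rel 24 0,
   .rel 9 1,
   .rel 28 1,
   .rel 54 1,
   .rel 4 1,
   .rel 23 0,
   .rel 23 1,
   .rel 29 0,
   .rel 44 0,
   .rel 19 1,
   .rel 58 1,
   .rel 21 1,
   .rel 30 0,
   .rel 49 0,
   .rel 65 1,
   .rel 37 1,
   .rel 50 1,
   .rel 3 1,
   .rel 22 0,
   .rel 24 0,
   .rel 9 1,
   .rel 28 0,
   .rel 28 1,
   .rel 43 1,
   .rel 54 1,
   .rel 40 0,
   .rel 44 1,
   .rel 55 1,
   .rel 36 1,
   .rel 11 0,
   .rel 45 1,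
   .rel 49 0,
   .rel 65 0,
   .rel 50 0,
   .rel 50 1,
   .rel 39 0,
   .rel 39 1,
   .rel 28 1,
   .rel 54 0,
   .rel 61 1,
   .rel 44 1,
   .rel 55 0,
   .rel 38 0,
   .rel 65 0,
   .rel 37 1,
   .rel 5 1,
   .rel 24 1,
   .rel 9 1,
   .rel 39 0,
   .rel 43 0,
   .rel 29 1,
   .rel 32 1,
   .rel 36 1,
   .rel 30 0,
   .rel 51 1,
   .rel 24 1,
   .rel 39 1,
   .rel 28 1,
   .rel 54 0,
   .rel 10 1,
   .rel 62 1,
   .rel 38 1,
   .rel 49 0,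
   .rel 31 0,
   .rel 64 1,
   .rel 32 0,
   .rel 59 1,
   .rel 55 1,
   .rel 62 1,
   .rel 65 0,
   .rel 50 1,
   .rel 43 1,
   .rel 44 1,
   .rel 55 1]

/-- Steps. -/
def ops2_2 : List Op :=
  [.rel 19 1,
   .rel 49 0,
   .rel 65 0,
   .rel 20 1,
   .rel 37 1,
   .rel 50 0,
   .rel 59 1,
   .rel 10 1,
   .rel 29 1,
   .rel 55 1,
   .rel 19 1,
   .rel 36 1,
   .rel 58 1,
   .rel 63 1,
   .rel 38 0,
   .rel 45 1,
   .rel 51 1,
   .rel 49 0,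
   .rel 65 0,
   .rel 3 1,
   .rel 22 1,
   .rel 39 0,
   .rel 39 1,
   .rel 43 0,
   .rel 54 0,
   .rel 4 1,
   .rel 40 0,
   .rel 30 0,
   .rel 38 0,
   .rel 45 1,
   .rel 49 0,
   .rel 50 0,
   .rel 24 1,
   .rel 39 0,
   .rel 39 1,
   .rel 54 0,
   .rel 15 1,
   .rel 32 1,
   .rel 55 0,
   .rel 38 1,
   .rel 45 0,
   .rel 51 1,
   .rel 56 1,
   .rel 49 1]

/-- The steps of segment 2. -/
def ops2 : List Op :=
  ops2_0 ++ ops2_1 ++ ops2_2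

theorem ops2_ok : BitClosure.opsOK 12 ops2 = true := by decide +kernel

theorem seg2 : BitClosure.eqSt (BitClosure.run nets closureRels ops2 state2) state3 = true := by
  decide +kernel

end Cfsg.Agent.Presented.Fi24Table
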