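import Cfsg.Agent.Lib.Presented.Fi24.Nets
import Cfsg.Agent.Lib.Presented.Fi24.Rels
import Cfsg.Agent.Lib.Presented.Fi24.Init
import Cfsg.Agent.Lib.Presented.Fi24.State3
import Cfsg.Agent.Lib.Presented.Fi24.State4

/-! Generated: steps 3 of closing the table of cosets in Fi24. -/

set_option autoImplicit false
set_option maxRecDepth 100000

namespace Cfsg.Agent.Presented.Fi24Table

open BitClosure (St Op)

/-- Steps. -/
def ops3_0 : List Op :=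
  [.rel 65 1,
   .rel 46 1,
   .rel 5 1,
   .rel 7 1,
   .rel 24 1,
   .rel 9 1,
   .rel 26 1,
   .rel 28 1,
   .rel 43 1,
   .rel 54 1,
   .rel 6 1,
   .rel 25 1,
   .rel 40 1,
   .rel 44 1,
   .rel 47 1,
   .rel 58 0,
   .rel 58 1,
   .rel 38 0,
   .rel 51 0,
   .rel 56 1,
   .rel 60 1,
   .rel 49 0,
   .rel 65 1,
   .rel 33 1,
   .rel 35 1,
   .rel 59 0,
   .rel 39 0,
   .rel 52 0,
   .rel 52 1,
   .rel 54 1,
   .rel 61 1,
   .rel 25 1,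
   .rel 40 0,
   .rel 32 1,
   .rel 53 0,
   .rel 55 0,
   .rel 55 1,
   .rel 34 1,
   .rel 47 1,
   .rel 62 0,
   .rel 62 1,
   .rel 30 0,
   .rel 45 0,
   .rel 51 0,
   .rel 51 1,
   .rel 56 0,
   .rel 56 1,
   .rel 60 1,
   .rel 49 1,
   .rel 16 1,
   .rel 46 0,
   .rel 46 1,
   .rel 48 1,
   .rel 50 1,
   .rel 22 1,
   .rel 24 1,
   .rel 26 1,
   .rel 39 0,
   .rel 28 1,
   .rel 41 0,
   .rel 41 1,
   .rel 43 0,
   .rel 43 1,
   .rel 52 0,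
   .rel 52 1,
   .rel 61 0,
   .rel 23 1,
   .rel 25 1,
   .rel 40 1,
   .rel 42 1,
   .rel 15 1,
   .rel 53 1,
   .rel 55 1,
   .rel 17 1,
   .rel 34 1,
   .rel 47 0,
   .rel 47 1,
   .rel 62 0,
   .rel 19 1,
   .rel 36 1,
   .rel 58 0,
   .rel 58 1,
   .rel 63 0,
   .rel 21 0,
   .rel 38 0,
   .rel 45 0,
   .rel 45 1,
   .rel 51 0,
   .rel 51 1,
   .rel 56 0,
   .rel 60 1,
   .rel 65 1,
   .rel 57 1,
   .rel 3 1,
   .rel 5 1,
   .rel 7 1,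
   .rel 24 1,
   .rel 9 1,
   .rel 26 1,
   .rel 39 0]

/-- Steps. -/
def ops3_1 : List Op :=
  [.rel 39 1,
   .rel 28 0,
   .rel 28 1,
   .rel 41 1,
   .rel 43 0,
   .rel 52 0,
   .rel 52 1,
   .rel 54 1,
   .rel 61 0,
   .rel 61 1,
   .rel 6 1,
   .rel 8 1,
   .rel 27 1,
   .rel 29 1,
   .rel 13 1,
   .rel 44 0,
   .rel 15 1,
   .rel 32 1,
   .rel 53 1,
   .rel 55 0,
   .rel 55 1,
   .rel 17 1,
   .rel 47 1,
   .rel 62 0,
   .rel 19 1,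
   .rel 58 0,
   .rel 63 0,
   .rel 11 0,
   .rel 30 0,
   .rel 38 1,
   .rel 45 0,
   .rel 51 0,
   .rel 56 0,
   .rel 60 1,
   .rel 49 0,
   .rel 65 1,
   .rel 18 1,
   .rel 31 0,
   .rel 48 1,
   .rel 50 0,
   .rel 50 1,
   .rel 57 1,
   .rel 3 1,
   .rel 22 0,
   .rel 22 1,
   .rel 24 0,
   .rel 24 1,
   .rel 39 1,
   .rel 41 1,
   .rel 52 0,
   .rel 52 1,
   .rel 61 0,
   .rel 23 0,
   .rel 42 1,
   .rel 44 1,
   .rel 53 1,
   .rel 55 1,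
   .rel 34 1,
   .rel 36 0,
   .rel 63 0,
   .rel 21 0,
   .rel 38 0,
   .rel 56 0,
   .rel 49 1,
   .rel 65 0,
   .rel 35 1,
   .rel 37 1,
   .rel 48 1,
   .rel 59 1,
   .rel 64 0,
   .rel 22 0,
   .rel 22 1,
   .rel 7 1,
   .rel 24 0,
   .rel 26 1,
   .rel 39 0,
   .rel 41 1,
   .rel 43 0,
   .rel 43 1,
   .rel 40 0,
   .rel 42 1,
   .rel 53 1,
   .rel 55 1,
   .rel 62 0,
   .rel 62 1,
   .rel 36 1,
   .rel 58 1,
   .rel 63 0,
   .rel 11 0,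
   .rel 30 0,
   .rel 49 0,
   .rel 65 0,
   .rel 12 0,
   .rel 48 1,
   .rel 50 1,
   .rel 57 1,
   .rel 39 0,
   .rel 28 1,
   .rel 41 0,
   .rel 54 1]

/-- Steps. -/
def ops3_2 : List Op :=
  [.rel 61 1,
   .rel 27 1,
   .rel 13 0,
   .rel 42 1,
   .rel 53 1,
   .rel 45 1,
   .rel 60 0,
   .rel 49 0,
   .rel 65 1,
   .rel 24 1,
   .rel 39 1,
   .rel 52 0,
   .rel 38 0,
   .rel 45 0,
   .rel 56 0,
   .rel 22 1,
   .rel 39 0,
   .rel 44 0,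
   .rel 30 0,
   .rel 51 0,
   .rel 31 0,
   .rel 40 0,
   .rel 32 0,
   .rel 55 0,
   .rel 36 0,
   .rel 21 0,
   .rel 30 1,
   .rel 38 1,
   .rel 22 0,
   .rel 22 1,
   .rel 39 0,
   .rel 41 0,
   .rel 54 0,
   .rel 25 0,
   .rel 13 1,
   .rel 40 0,
   .rel 32 1,
   .rel 11 0,
   .rel 30 0,
   .rel 38 1,
   .rel 45 0,
   .rel 45 1,
   .rel 51 1,
   .rel 56 1,
   .rel 49 1]

/-- The steps of segment 3. -/
def ops3 : List Op :=
  ops3_0 ++ ops3_1 ++ ops3_2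

theorem ops3_ok : BitClosure.opsOK 12 ops3 = true := by decide +kernel

theorem seg3 : BitClosure.eqSt (BitClosure.run nets closureRels ops3 state3) state4 = true := by
  decide +kernel

end Cfsg.Agent.Presented.Fi24Table
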