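import Cfsg.Agent.Lib.Presented.Fi24.Nets
import Cfsg.Agent.Lib.Presented.Fi24.Rels
import Cfsg.Agent.Lib.Presented.Fi24.Init
import Cfsg.Agent.Lib.Presented.Fi24.State4
import Cfsg.Agent.Lib.Presented.Fi24.State5

/-! Generated: steps 4 of closing the table of cosets in Fi24. -/

set_option autoImplicit false
set_option maxRecDepth 100000

namespace Cfsg.Agent.Presented.Fi24Table

open BitClosure (St Op)

/-- Steps. -/
def ops4_0 : List Op :=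
  [.rel 65 1,
   .rel 31 1,
   .rel 22 1,
   .rel 24 0,
   .rel 24 1,
   .rel 26 1,
   .rel 39 0,
   .rel 39 1,
   .rel 28 1,
   .rel 43 1,
   .rel 54 0,
   .rel 54 1,
   .rel 61 0,
   .rel 61 1,
   .rel 23 1,
   .rel 25 1,
   .rel 29 0,
   .rel 15 1,
   .rel 32 1,
   .rel 55 0,
   .rel 55 1,
   .rel 47 1,
   .rel 36 1,
   .rel 58 0,
   .rel 58 1,
   .rel 0 0,
   .rel 21 1,
   .rel 45 0,
   .rel 51 1,
   .rel 49 0,
   .rel 65 1,
   .rel 46 1,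
   .rel 50 1,
   .rel 1 0,
   .rel 5 0,
   .rel 24 1,
   .rel 39 1,
   .rel 28 1,
   .rel 41 1,
   .rel 43 1,
   .rel 52 0,
   .rel 52 1,
   .rel 54 1,
   .rel 61 0,
   .rel 23 0,
   .rel 25 1,
   .rel 40 1,
   .rel 44 1,
   .rel 55 1,
   .rel 62 0,
   .rel 19 1,
   .rel 58 0,
   .rel 11 0,
   .rel 38 0,
   .rel 51 0,
   .rel 56 1,
   .rel 60 1,
   .rel 49 0,
   .rel 65 0,
   .rel 65 1,
   .rel 12 0,
   .rel 33 1,
   .rel 50 0,
   .rel 59 0,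
   .rel 3 1,
   .rel 22 0,
   .rel 22 1,
   .rel 24 0,
   .rel 9 1,
   .rel 39 0,
   .rel 28 0,
   .rel 28 1,
   .rel 41 0,
   .rel 43 0,
   .rel 52 1,
   .rel 61 1,
   .rel 4 1,
   .rel 10 1,
   .rel 23 1,
   .rel 27 0,
   .rel 40 0,
   .rel 44 0,
   .rel 32 1,
   .rel 55 0,
   .rel 34 1,
   .rel 47 0,
   .rel 0 0,
   .rel 11 0,
   .rel 11 1,
   .rel 21 1,
   .rel 30 0,
   .rel 38 0,
   .rel 45 0,
   .rel 45 1,
   .rel 49 1,
   .rel 65 1,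
   .rel 3 0,
   .rel 5 0,
   .rel 22 0,
   .rel 24 1]

/-- Steps. -/
def ops4_1 : List Op :=
  [.rel 39 0,
   .rel 39 1,
   .rel 43 0,
   .rel 43 1,
   .rel 54 0,
   .rel 54 1,
   .rel 42 0,
   .rel 44 1,
   .rel 55 1,
   .rel 36 1,
   .rel 58 1,
   .rel 30 0,
   .rel 38 1,
   .rel 45 1,
   .rel 51 1,
   .rel 49 0,
   .rel 65 1,
   .rel 31 0,
   .rel 46 1,
   .rel 50 1,
   .rel 28 1,
   .rel 41 0,
   .rel 54 0,
   .rel 61 1,
   .rel 44 1,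
   .rel 32 0,
   .rel 32 1,
   .rel 55 1,
   .rel 62 1,
   .rel 21 0,
   .rel 30 1,
   .rel 22 0,
   .rel 24 0,
   .rel 24 1,
   .rel 39 1,
   .rel 52 0,
   .rel 40 0,
   .rel 30 0,
   .rel 45 0,
   .rel 51 1,
   .rel 56 1,
   .rel 41 0,
   .rel 22 1,
   .rel 26 0,
   .rel 29 1,
   .rel 40 1,
   .rel 34 0,
   .rel 63 1,
   .rel 60 1,
   .rel 12 0,
   .rel 57 1,
   .rel 15 1,
   .rel 55 0,
   .rel 58 0,
   .rel 38 1,
   .rel 51 0,
   .rel 51 1,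
   .rel 49 1,
   .rel 65 1,
   .rel 31 1,
   .rel 46 1,
   .rel 5 1,
   .rel 24 1,
   .rel 43 1,
   .rel 52 0,
   .rel 54 1,
   .rel 6 1,
   .rel 40 1,
   .rel 32 1,
   .rel 58 0,
   .rel 45 0,
   .rel 51 0,
   .rel 51 1,
   .rel 56 1,
   .rel 33 1,
   .rel 57 0,
   .rel 59 0,
   .rel 24 1,
   .rel 26 1,
   .rel 52 0,
   .rel 52 1,
   .rel 25 1,
   .rel 32 1,
   .rel 53 0,
   .rel 55 0,
   .rel 34 1,
   .rel 47 1,
   .rel 62 0,
   .rel 45 0,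
   .rel 51 0,
   .rel 51 1,
   .rel 56 0,
   .rel 56 1,
   .rel 49 1,
   .rel 16 1,
   .rel 46 0,
   .rel 24 1,
   .rel 26 1,
   .rel 39 1,
   .rel 28 1]

/-- Steps. -/
def ops4_2 : List Op :=
  [.rel 41 1,
   .rel 43 1,
   .rel 52 0,
   .rel 52 1,
   .rel 54 0,
   .rel 61 0,
   .rel 61 1,
   .rel 23 1,
   .rel 25 1,
   .rel 40 1,
   .rel 15 1,
   .rel 17 1,
   .rel 34 1,
   .rel 47 0,
   .rel 47 1,
   .rel 62 0,
   .rel 19 1,
   .rel 36 1,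
   .rel 58 0,
   .rel 58 1,
   .rel 38 0,
   .rel 45 0,
   .rel 45 1,
   .rel 51 0,
   .rel 51 1,
   .rel 56 0,
   .rel 49 0,
   .rel 65 1,
   .rel 50 0,
   .rel 50 1,
   .rel 26 1,
   .rel 39 0,
   .rel 28 1,
   .rel 41 1,
   .rel 43 0,
   .rel 52 0,
   .rel 52 1,
   .rel 54 1,
   .rel 61 0,
   .rel 61 1,
   .rel 23 1,
   .rel 25 1,
   .rel 29 1,
   .rel 13 1,
   .rel 40 0,
   .rel 40 1,
   .rel 44 0,
   .rel 44 1,
   .rel 15 1,
   .rel 32 1,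
   .rel 55 0,
   .rel 55 1,
   .rel 47 0,
   .rel 47 1,
   .rel 62 0,
   .rel 62 1,
   .rel 19 1]

/-- The steps of segment 4. -/
def ops4 : List Op :=
  ops4_0 ++ ops4_1 ++ ops4_2

theorem ops4_ok : BitClosure.opsOK 12 ops4 = true := by decide +kernel

theorem seg4 : BitClosure.eqSt (BitClosure.run nets closureRels ops4 state4) state5 = true := by
  decide +kernel

end Cfsg.Agent.Presented.Fi24Table
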