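import Cfsg.Agent.Lib.Presented.Fi24.Nets
import Cfsg.Agent.Lib.Presented.Fi24.Rels
import Cfsg.Agent.Lib.Presented.Fi24.Init
import Cfsg.Agent.Lib.Presented.Fi24.State5
import Cfsg.Agent.Lib.Presented.Fi24.State6

/-! Generated: steps 5 of closing the table of cosets in Fi24. -/

set_option autoImplicit false
set_option maxRecDepth 100000

namespace Cfsg.Agent.Presented.Fi24Table

open BitClosure (St Op)

/-- Steps. -/
def ops5_0 : List Op :=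
  [.rel 58 0,
   .rel 58 1,
   .rel 30 0,
   .rel 45 0,
   .rel 45 1,
   .rel 51 0,
   .rel 56 0,
   .rel 49 0,
   .rel 49 1,
   .rel 65 0,
   .rel 65 1,
   .rel 20 1,
   .rel 31 0,
   .rel 37 1,
   .rel 50 0,
   .rel 50 1,
   .rel 59 1,
   .rel 24 1,
   .rel 26 1,
   .rel 41 0,
   .rel 41 1,
   .rel 43 1,
   .rel 52 0,
   .rel 52 1,
   .rel 54 0,
   .rel 44 1,
   .rel 32 0,
   .rel 55 0,
   .rel 55 1,
   .rel 19 1,
   .rel 58 1,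
   .rel 21 0,
   .rel 38 0,
   .rel 45 0,
   .rel 51 1,
   .rel 49 1,
   .rel 65 0,
   .rel 37 1,
   .rel 46 1,
   .rel 22 0,
   .rel 26 0,
   .rel 39 0,
   .rel 43 0,
   .rel 40 1,
   .rel 15 1,
   .rel 36 1,
   .rel 30 0,
   .rel 49 0,
   .rel 28 1,
   .rel 13 0,
   .rel 40 0,
   .rel 41 0,
   .rel 61 1,
   .rel 2 0,
   .rel 4 0,
   .rel 15 0,
   .rel 19 0,
   .rel 21 0,
   .rel 30 0,
   .rel 51 0,
   .rel 14 0,
   .rel 3 0,
   .rel 5 0,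
   .rel 9 0,
   .rel 54 0,
   .rel 2 0,
   .rel 4 0,
   .rel 6 0,
   .rel 8 0,
   .rel 0 1,
   .rel 1 0,
   .rel 3 0,
   .rel 5 0,
   .rel 7 0,
   .rel 24 1,
   .rel 9 0,
   .rel 2 0,
   .rel 4 0,
   .rel 6 0,
   .rel 10 0,
   .rel 13 0,
   .rel 15 0,
   .rel 17 0,
   .rel 19 0,
   .rel 0 1,
   .rel 11 1,
   .rel 21 1,
   .rel 1 0,
   .rel 1 1,
   .rel 3 0,
   .rel 5 0,
   .rel 22 0,
   .rel 7 0,
   .rel 24 0,
   .rel 9 0,
   .rel 26 0,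
   .rel 28 0,
   .rel 2 0,
   .rel 2 1,
   .rel 4 0]

/-- Steps. -/
def ops5_1 : List Op :=
  [.rel 6 0,
   .rel 8 0,
   .rel 10 0,
   .rel 23 0,
   .rel 25 0,
   .rel 27 0,
   .rel 29 0,
   .rel 13 0,
   .rel 15 0,
   .rel 32 0,
   .rel 17 0,
   .rel 34 0,
   .rel 19 0,
   .rel 36 0,
   .rel 0 1,
   .rel 11 0,
   .rel 11 1,
   .rel 21 1,
   .rel 30 1,
   .rel 38 1,
   .rel 45 1,
   .rel 51 1,
   .rel 12 0,
   .rel 14 0,
   .rel 31 0,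
   .rel 1 0,
   .rel 3 0,
   .rel 5 0,
   .rel 22 0,
   .rel 22 1,
   .rel 7 0,
   .rel 24 0,
   .rel 24 1,
   .rel 9 0,
   .rel 26 0,
   .rel 39 0,
   .rel 39 1,
   .rel 28 0,
   .rel 41 0,
   .rel 43 0,
   .rel 54 0,
   .rel 2 0,
   .rel 4 0,
   .rel 6 0,
   .rel 10 0,
   .rel 23 0,
   .rel 23 1,
   .rel 25 0,
   .rel 29 0,
   .rel 13 0,
   .rel 13 1,
   .rel 40 0,
   .rel 44 0,
   .rel 15 0,
   .rel 32 0,
   .rel 32 1,
   .rel 55 0,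
   .rel 17 0,
   .rel 34 0,
   .rel 19 0,
   .rel 36 0,
   .rel 58 0,
   .rel 0 1,
   .rel 11 0,
   .rel 11 1,
   .rel 21 1,
   .rel 30 1,
   .rel 38 1,
   .rel 45 0,
   .rel 45 1,
   .rel 51 1,
   .rel 56 1,
   .rel 49 1,
   .rel 12 0,
   .rel 12 1,
   .rel 14 0,
   .rel 16 0,
   .rel 1 0,
   .rel 3 0,
   .rel 5 0,
   .rel 22 0,
   .rel 22 1,
   .rel 7 0,
   .rel 24 0,
   .rel 24 1,
   .rel 9 0,
   .rel 26 0,
   .rel 26 1,
   .rel 39 0,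
   .rel 39 1,
   .rel 28 0,
   .rel 28 1,
   .rel 41 0,
   .rel 41 1,
   .rel 43 0,
   .rel 43 1,
   .rel 54 0,
   .rel 54 1,
   .rel 2 0,
   .rel 4 0]

/-- Steps. -/
def ops5_2 : List Op :=
  [.rel 6 0,
   .rel 10 0,
   .rel 23 0,
   .rel 23 1,
   .rel 25 0,
   .rel 25 1,
   .rel 29 0,
   .rel 13 0,
   .rel 40 0,
   .rel 40 1,
   .rel 44 0,
   .rel 15 0,
   .rel 32 0,
   .rel 32 1,
   .rel 55 0,
   .rel 17 0,
   .rel 34 0,
   .rel 19 0,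
   .rel 36 0,
   .rel 58 0,
   .rel 58 1,
   .rel 0 1,
   .rel 11 0,
   .rel 21 1,
   .rel 30 1,
   .rel 38 1,
   .rel 45 0,
   .rel 45 1,
   .rel 51 1,
   .rel 49 1,
   .rel 65 1,
   .rel 12 0,
   .rel 14 0,
   .rel 16 0,
   .rel 20 0,
   .rel 46 0,
   .rel 46 1,
   .rel 50 1,
   .rel 1 0,
   .rel 3 0,
   .rel 5 0,
   .rel 22 0,
   .rel 22 1,
   .rel 7 0,
   .rel 24 0,
   .rel 24 1,
   .rel 9 0,
   .rel 26 0,
   .rel 39 0,
   .rel 39 1,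
   .rel 28 0,
   .rel 28 1,
   .rel 41 0,
   .rel 43 0,
   .rel 43 1,
   .rel 54 1,
   .rel 61 1,
   .rel 2 0,
   .rel 4 0,
   .rel 6 0,
   .rel 10 0,
   .rel 23 0,
   .rel 25 0,
   .rel 29 0,
   .rel 13 0,
   .rel 40 0,
   .rel 40 1,
   .rel 44 0,
   .rel 15 0,
   .rel 32 0]

/-- The steps of segment 5. -/
def ops5 : List Op :=
  ops5_0 ++ ops5_1 ++ ops5_2

theorem ops5_ok : BitClosure.opsOK 12 ops5 = true := by decide +kernel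

theorem seg5 : BitClosure.eqSt (BitClosure.run nets closureRels ops5 state5) state6 = true := by
  decide +kernel

end Cfsg.Agent.Presented.Fi24Table
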