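import Cfsg.Agent.Lib.Presented.Fi24.Nets
import Cfsg.Agent.Lib.Presented.Fi24.Rels
import Cfsg.Agent.Lib.Presented.Fi24.Init
import Cfsg.Agent.Lib.Presented.Fi24.State6
import Cfsg.Agent.Lib.Presented.Fi24.State7

/-! Generated: steps 6 of closing the table of cosets in Fi24. -/

set_option autoImplicit false
set_option maxRecDepth 100000

namespace Cfsg.Agent.Presented.Fi24Table

open BitClosure (St Op)

/-- Steps. -/
def ops6_0 : List Op :=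
  [.rel 55 1,
   .rel 17 0,
   .rel 34 0,
   .rel 47 0,
   .rel 19 0,
   .rel 36 0,
   .rel 58 0,
   .rel 58 1,
   .rel 0 1,
   .rel 11 0,
   .rel 21 1,
   .rel 38 0,
   .rel 38 1,
   .rel 51 0,
   .rel 12 0,
   .rel 14 0,
   .rel 16 0,
   .rel 20 0,
   .rel 1 0,
   .rel 1 1,
   .rel 3 0,
   .rel 5 0,
   .rel 22 0,
   .rel 7 0,
   .rel 24 0,
   .rel 24 1,
   .rel 9 0,
   .rel 39 0,
   .rel 28 0,
   .rel 43 0,
   .rel 52 0,
   .rel 13 0,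
   .rel 15 0,
   .rel 17 0,
   .rel 19 0,
   .rel 30 0,
   .rel 2 0,
   .rel 53 1,
   .rel 34 1,
   .rel 62 1,
   .rel 21 0,
   .rel 41 1,
   .rel 65 0,
   .rel 13 1,
   .rel 42 1,
   .rel 47 1,
   .rel 19 1,
   .rel 45 0,
   .rel 46 1,
   .rel 48 1,
   .rel 50 1,
   .rel 59 1,
   .rel 41 1,
   .rel 2 1,
   .rel 55 1,
   .rel 49 0,
   .rel 33 0,
   .rel 6 0,
   .rel 29 1,
   .rel 15 1,
   .rel 33 1,
   .rel 36 1,
   .rel 21 1,
   .rel 31 0,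
   .rel 32 0,
   .rel 65 1,
   .rel 60 1,
   .rel 49 1,
   .rel 46 0,
   .rel 54 1,
   .rel 8 0,
   .rel 23 1,
   .rel 27 0,
   .rel 34 0,
   .rel 63 0,
   .rel 14 1,
   .rel 16 0,
   .rel 48 0,
   .rel 64 1,
   .rel 17 0,
   .rel 18 0,
   .rel 69 2,
   .rel 61 1,
   .rel 65 1,
   .rel 50 0,
   .rel 38 1,
   .rel 45 1,
   .rel 14 1,
   .rel 31 1,
   .rel 46 0,
   .rel 48 0,
   .rel 50 1,
   .rel 54 0,
   .rel 4 0,
   .rel 10 0,
   .rel 23 0,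
   .rel 23 1,
   .rel 29 0,
   .rel 15 1,
   .rel 32 1]

/-- Steps. -/
def ops6_1 : List Op :=
  [.rel 53 0,
   .rel 55 0,
   .rel 55 1,
   .rel 47 0,
   .rel 62 1,
   .rel 0 1,
   .rel 21 1,
   .rel 30 1,
   .rel 45 1,
   .rel 51 1,
   .rel 56 1,
   .rel 65 0,
   .rel 16 0,
   .rel 16 1,
   .rel 31 0,
   .rel 33 0,
   .rel 37 0,
   .rel 46 0,
   .rel 50 1,
   .rel 59 1,
   .rel 1 0,
   .rel 5 0,
   .rel 7 0,
   .rel 24 0,
   .rel 24 1,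
   .rel 9 0,
   .rel 26 0,
   .rel 26 1,
   .rel 39 0,
   .rel 39 1,
   .rel 28 0,
   .rel 41 0,
   .rel 41 1,
   .rel 43 0,
   .rel 54 0,
   .rel 61 0,
   .rel 4 0,
   .rel 6 0,
   .rel 6 1,
   .rel 10 0,
   .rel 23 0,
   .rel 23 1,
   .rel 25 0,
   .rel 25 1,
   .rel 29 0,
   .rel 13 0,
   .rel 40 0,
   .rel 40 1,
   .rel 44 1,
   .rel 15 0,
   .rel 15 1,
   .rel 32 0,
   .rel 32 1,
   .rel 55 0,
   .rel 55 1,
   .rel 17 0,
   .rel 17 1,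
   .rel 34 0,
   .rel 34 1,
   .rel 47 0,
   .rel 47 1,
   .rel 62 0,
   .rel 19 0,
   .rel 36 0,
   .rel 58 0,
   .rel 58 1,
   .rel 0 0,
   .rel 0 1,
   .rel 11 1,
   .rel 21 1,
   .rel 30 1,
   .rel 38 0,
   .rel 38 1,
   .rel 45 0,
   .rel 45 1,
   .rel 51 0,
   .rel 51 1,
   .rel 56 0,
   .rel 56 1,
   .rel 49 0,
   .rel 49 1,
   .rel 65 1,
   .rel 12 0,
   .rel 12 1,
   .rel 14 0,
   .rel 14 1,
   .rel 16 0,
   .rel 20 0,
   .rel 31 0,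
   .rel 31 1,
   .rel 33 0,
   .rel 33 1,
   .rel 37 0,
   .rel 37 1,
   .rel 46 0]

/-- The steps of segment 6. -/
def ops6 : List Op :=
  ops6_0 ++ ops6_1

theorem ops6_ok : BitClosure.opsOK 12 ops6 = true := by decide +kernel

theorem seg6 : BitClosure.eqSt (BitClosure.run nets closureRels ops6 state6) state7 = true := by
  decide +kernel

end Cfsg.Agent.Presented.Fi24Table
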