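import Cfsg.Agent.Lib.Presented.Fi24.Nets
import Cfsg.Agent.Lib.Presented.Fi24.Rels
import Cfsg.Agent.Lib.Presented.Fi24.Init
import Cfsg.Agent.Lib.Presented.Fi24.State8
import Cfsg.Agent.Lib.Presented.Fi24.State9

/-! Generated: steps 8 of closing the table of cosets in Fi24. -/

set_option autoImplicit false
set_option maxRecDepth 100000

namespace Cfsg.Agent.Presented.Fi24Table

open BitClosure (St Op)

/-- Steps. -/
def ops8_0 : List Op :=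
  [.rel 32 0,
   .rel 32 1,
   .rel 55 1,
   .rel 17 0,
   .rel 34 0,
   .rel 47 0,
   .rel 62 1,
   .rel 19 0,
   .rel 36 0,
   .rel 36 1,
   .rel 58 0,
   .rel 58 1,
   .rel 0 0,
   .rel 0 1,
   .rel 11 0,
   .rel 11 1,
   .rel 21 0,
   .rel 21 1,
   .rel 30 0,
   .rel 30 1,
   .rel 38 0,
   .rel 38 1,
   .rel 45 0,
   .rel 51 0,
   .rel 65 0,
   .rel 12 0,
   .rel 14 0,
   .rel 16 0,
   .rel 20 1,
   .rel 33 0,
   .rel 37 0,
   .rel 46 0,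
   .rel 50 0,
   .rel 50 1,
   .rel 1 0,
   .rel 1 1,
   .rel 3 0,
   .rel 5 0,
   .rel 22 0,
   .rel 22 1,
   .rel 24 0,
   .rel 24 1,
   .rel 9 0,
   .rel 26 0,
   .rel 39 0,
   .rel 28 0,
   .rel 28 1,
   .rel 43 0,
   .rel 43 1,
   .rel 52 0,
   .rel 2 0,
   .rel 23 0,
   .rel 25 0,
   .rel 29 0,
   .rel 13 0,
   .rel 40 0,
   .rel 44 0,
   .rel 15 0,
   .rel 17 0,
   .rel 19 0,
   .rel 11 0,
   .rel 21 0,
   .rel 30 0,
   .rel 12 0,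
   .rel 14 0,
   .rel 16 0,
   .rel 24 0,
   .rel 13 0,
   .rel 15 0,
   .rel 19 0,
   .rel 21 0,
   .rel 16 0,
   .rel 17 0,
   .rel 6 0,
   .rel 23 1,
   .rel 45 0,
   .rel 31 1,
   .rel 46 1,
   .rel 19 1,
   .rel 21 1,
   .rel 51 1,
   .rel 14 0,
   .rel 15 0,
   .rel 19 1,
   .rel 58 1,
   .rel 59 1,
   .rel 53 0,
   .rel 16 1,
   .rel 66 5,
   .rel 22 1,
   .rel 43 0,
   .rel 13 0,
   .rel 11 0,
   .rel 12 0,
   .rel 14 1,
   .rel 4 1,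
   .rel 13 0,
   .rel 14 1,
   .rel 47 0,
   .rel 49 0]

/-- Steps. -/
def ops8_1 : List Op :=
  [.rel 46 0,
   .rel 48 0,
   .rel 50 0,
   .rel 47 0,
   .rel 45 0,
   .rel 14 1,
   .rel 46 0,
   .rel 4 1,
   .rel 23 1,
   .rel 47 0,
   .rel 70 4,
   .rel 39 1,
   .rel 5 1,
   .rel 24 1,
   .rel 52 1,
   .rel 54 0,
   .rel 54 1,
   .rel 32 1,
   .rel 55 1,
   .rel 62 0,
   .rel 56 1,
   .rel 60 1,
   .rel 24 1,
   .rel 26 1,
   .rel 39 1,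
   .rel 41 1,
   .rel 52 1,
   .rel 54 1,
   .rel 61 0,
   .rel 15 0,
   .rel 53 1,
   .rel 55 1,
   .rel 17 0,
   .rel 17 1,
   .rel 34 1,
   .rel 47 0,
   .rel 47 1,
   .rel 63 0,
   .rel 0 1,
   .rel 11 0,
   .rel 38 0,
   .rel 45 0,
   .rel 60 1,
   .rel 14 0,
   .rel 14 1,
   .rel 16 0,
   .rel 18 0,
   .rel 46 0,
   .rel 48 0,
   .rel 50 0,
   .rel 57 1,
   .rel 26 1,
   .rel 39 0,
   .rel 41 0,
   .rel 41 1,
   .rel 43 0,
   .rel 52 0,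
   .rel 52 1,
   .rel 54 1,
   .rel 61 0,
   .rel 4 0,
   .rel 23 0,
   .rel 27 1,
   .rel 13 0,
   .rel 13 1,
   .rel 42 0,
   .rel 42 1,
   .rel 15 0,
   .rel 53 1,
   .rel 17 0,
   .rel 17 1,
   .rel 34 0,
   .rel 34 1,
   .rel 47 0,
   .rel 47 1,
   .rel 62 0,
   .rel 19 0,
   .rel 63 0,
   .rel 0 0,
   .rel 11 1,
   .rel 21 0,
   .rel 21 1,
   .rel 30 0,
   .rel 38 1,
   .rel 45 0,
   .rel 60 1,
   .rel 49 0,
   .rel 14 0,
   .rel 14 1,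
   .rel 16 0,
   .rel 18 0,
   .rel 18 1,
   .rel 31 0]

/-- The steps of segment 8. -/
def ops8 : List Op :=
  ops8_0 ++ ops8_1

theorem ops8_ok : BitClosure.opsOK 12 ops8 = true := by decide +kernel

theorem seg8 : BitClosure.eqSt (BitClosure.run nets closureRels ops8 state8) state9 = true := by
  decide +kernel

end Cfsg.Agent.Presented.Fi24Table
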