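import Cfsg.Agent.Lib.Presented.Fi24.Nets
import Cfsg.Agent.Lib.Presented.Fi24.Rels
import Cfsg.Agent.Lib.Presented.Fi24.Init
import Cfsg.Agent.Lib.Presented.Fi24.State9
import Cfsg.Agent.Lib.Presented.Fi24.State10

/-! Generated: steps 9 of closing the table of cosets in Fi24. -/

set_option autoImplicit false
set_option maxRecDepth 100000

namespace Cfsg.Agent.Presented.Fi24Table

open BitClosure (St Op)

/-- Steps. -/
def ops9_0 : List Op :=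
  [.rel 35 0,
   .rel 35 1,
   .rel 46 0,
   .rel 48 0,
   .rel 48 1,
   .rel 57 1,
   .rel 64 0,
   .rel 1 1,
   .rel 3 0,
   .rel 5 0,
   .rel 22 0,
   .rel 22 1,
   .rel 7 0,
   .rel 7 1,
   .rel 24 0,
   .rel 24 1,
   .rel 26 0,
   .rel 26 1,
   .rel 39 0,
   .rel 28 0,
   .rel 41 0,
   .rel 41 1,
   .rel 43 0,
   .rel 52 1,
   .rel 61 0,
   .rel 61 1,
   .rel 4 0,
   .rel 4 1,
   .rel 6 0,
   .rel 8 1,
   .rel 23 0,
   .rel 23 1,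
   .rel 25 0,
   .rel 25 1,
   .rel 27 0,
   .rel 27 1,
   .rel 13 0,
   .rel 13 1,
   .rel 40 0,
   .rel 42 0,
   .rel 42 1,
   .rel 15 0,
   .rel 53 0,
   .rel 53 1,
   .rel 17 1,
   .rel 34 1,
   .rel 47 0,
   .rel 47 1,
   .rel 62 1,
   .rel 19 0,
   .rel 36 1,
   .rel 63 0,
   .rel 63 1,
   .rel 0 0,
   .rel 11 1,
   .rel 21 0,
   .rel 30 0,
   .rel 38 1,
   .rel 45 1,
   .rel 60 1,
   .rel 49 0,
   .rel 49 1,
   .rel 65 1,
   .rel 12 0,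
   .rel 14 0,
   .rel 14 1,
   .rel 18 1,
   .rel 20 0,
   .rel 31 1,
   .rel 35 1,
   .rel 37 1,
   .rel 46 0,
   .rel 48 1,
   .rel 50 0,
   .rel 50 1,
   .rel 57 1,
   .rel 59 1,
   .rel 64 0,
   .rel 3 0,
   .rel 5 0,
   .rel 7 0,
   .rel 24 0,
   .rel 24 1,
   .rel 26 1,
   .rel 39 0,
   .rel 28 0,
   .rel 28 1,
   .rel 41 0,
   .rel 41 1,
   .rel 43 0,
   .rel 52 1,
   .rel 54 0,
   .rel 54 1,
   .rel 61 0,
   .rel 61 1,
   .rel 2 0,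
   .rel 4 0,
   .rel 10 0,
   .rel 23 0,
   .rel 23 1]

/-- Steps. -/
def ops9_1 : List Op :=
  [.rel 25 1,
   .rel 27 1,
   .rel 29 0,
   .rel 29 1,
   .rel 13 0,
   .rel 42 1,
   .rel 44 1,
   .rel 15 1,
   .rel 32 0,
   .rel 32 1,
   .rel 53 0,
   .rel 53 1,
   .rel 55 0,
   .rel 55 1,
   .rel 17 0,
   .rel 17 1,
   .rel 34 1,
   .rel 47 1,
   .rel 62 0,
   .rel 19 0,
   .rel 36 1,
   .rel 58 1,
   .rel 63 0,
   .rel 0 0,
   .rel 11 0,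
   .rel 45 0,
   .rel 45 1,
   .rel 56 0,
   .rel 60 1,
   .rel 49 0,
   .rel 49 1,
   .rel 65 0,
   .rel 65 1,
   .rel 14 1,
   .rel 18 1,
   .rel 20 0,
   .rel 20 1,
   .rel 35 0,
   .rel 35 1,
   .rel 37 1,
   .rel 46 0,
   .rel 48 1,
   .rel 50 1,
   .rel 57 1,
   .rel 59 1,
   .rel 64 0,
   .rel 1 0,
   .rel 5 0,
   .rel 5 1,
   .rel 22 0,
   .rel 24 1,
   .rel 26 1,
   .rel 39 1,
   .rel 28 0,
   .rel 28 1,
   .rel 41 1,
   .rel 43 1,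
   .rel 54 0,
   .rel 54 1,
   .rel 61 0,
   .rel 61 1,
   .rel 2 0,
   .rel 4 0,
   .rel 10 0,
   .rel 23 1,
   .rel 25 1,
   .rel 27 1,
   .rel 29 1,
   .rel 40 1,
   .rel 42 1,
   .rel 44 1,
   .rel 15 1,
   .rel 32 1,
   .rel 53 1,
   .rel 55 1,
   .rel 47 0,
   .rel 62 1,
   .rel 19 1,
   .rel 36 1,
   .rel 58 1,
   .rel 63 0,
   .rel 0 1,
   .rel 38 0,
   .rel 45 0,
   .rel 51 0,
   .rel 49 0,
   .rel 49 1,
   .rel 65 0,
   .rel 65 1,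
   .rel 35 1,
   .rel 37 1,
   .rel 46 0,
   .rel 48 1,
   .rel 50 0,
   .rel 50 1,
   .rel 57 1,
   .rel 59 1,
   .rel 5 0,
   .rel 39 0,
   .rel 28 1]

/-- Steps. -/
def ops9_2 : List Op :=
  [.rel 43 0,
   .rel 54 1,
   .rel 61 1,
   .rel 23 1,
   .rel 29 1,
   .rel 13 1,
   .rel 40 0,
   .rel 44 0,
   .rel 44 1,
   .rel 15 0,
   .rel 53 1,
   .rel 55 1,
   .rel 62 1,
   .rel 36 1,
   .rel 58 1,
   .rel 30 0,
   .rel 38 0,
   .rel 45 0,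
   .rel 49 0,
   .rel 65 0,
   .rel 31 0,
   .rel 59 1,
   .rel 39 0,
   .rel 43 0,
   .rel 54 1,
   .rel 40 0,
   .rel 32 0,
   .rel 30 0,
   .rel 38 0,
   .rel 22 1,
   .rel 41 0,
   .rel 43 0,
   .rel 30 0]

/-- The steps of segment 9. -/
def ops9 : List Op :=
  ops9_0 ++ ops9_1 ++ ops9_2

theorem ops9_ok : BitClosure.opsOK 12 ops9 = true := by decide +kernel

theorem seg9 : BitClosure.eqSt (BitClosure.run nets closureRels ops9 state9) state10 = true := by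
  decide +kernel

end Cfsg.Agent.Presented.Fi24Table
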