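import Cfsg.Agent.Lib.Presented.Fi24.Setup
import Cfsg.Agent.Lib.Presented.Fi24.Seg0
import Cfsg.Agent.Lib.Presented.Fi24.Seg1
import Cfsg.Agent.Lib.Presented.Fi24.Seg2
import Cfsg.Agent.Lib.Presented.Fi24.Seg3
import Cfsg.Agent.Lib.Presented.Fi24.Seg4
import Cfsg.Agent.Lib.Presented.Fi24.Seg5
import Cfsg.Agent.Lib.Presented.Fi24.Seg6
import Cfsg.Agent.Lib.Presented.Fi24.Seg7
import Cfsg.Agent.Lib.Presented.Fi24.Seg8
import Cfsg.Agent.Lib.Presented.Fi24.Seg9
import Cfsg.Agent.Lib.Presented.Fi24.Seg10
import Cfsg.Agent.Lib.Presented.Fi24.Seg11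
import Cfsg.Agent.Lib.Presented.Fi24.Seg12

/-!
# The cosets of the subgroup generated by all generators but `k` in Fi24

`exists_cosets`: there are `306936` cosets, numbered so that the generators act by the twelve networks.
-/

set_option autoImplicit false

namespace Cfsg.Agent.Presented.Fi24Cosets

open Cfsg.Spor Cfsg.Agent.Presented Fi24Table Fi24Base Fi24Setup

theorem good0 : BitClosure.Good setup state0 := by
  refine BitClosure.Good.init (C := setup) _ rfl fun g hg hflag => ?_
  have h : ∀ g, g < 12 → [true, false, true, true, true, true, true, true, true, true, true, true].getD g false = true → g ∈ hIdx := by decide +kernel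
  exact Subgroup.subset_closure ⟨g, h g hg hflag, rfl⟩

theorem good13 : BitClosure.Good setup state13 := by
  have hrw : ∀ w ∈ closureRels, (∀ h ∈ w, h < setup.m) ∧ wval setup.s w = 1 := rels_one
  have g1 : BitClosure.Good setup state1 :=
    BitClosure.Good.run hrw ops0 ops0_ok good0 seg0
  have g2 : BitClosure.Good setup state2 :=
    BitClosure.Good.run hrw ops1 ops1_ok g1 seg1
  have g3 : BitClosure.Good setup state3 :=
    BitClosure.Good.run hrw ops2 ops2_ok g2 seg2
  have g4 : BitClosure.Good setup state4 :=
    BitClosure.Good.run hrw ops3 ops3_ok g3 seg3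
  have g5 : BitClosure.Good setup state5 :=
    BitClosure.Good.run hrw ops4 ops4_ok g4 seg4
  have g6 : BitClosure.Good setup state6 :=
    BitClosure.Good.run hrw ops5 ops5_ok g5 seg5
  have g7 : BitClosure.Good setup state7 :=
    BitClosure.Good.run hrw ops6 ops6_ok g6 seg6
  have g8 : BitClosure.Good setup state8 :=
    BitClosure.Good.run hrw ops7 ops7_ok g7 seg7
  have g9 : BitClosure.Good setup state9 :=
    BitClosure.Good.run hrw ops8 ops8_ok g8 seg8
  have g10 : BitClosure.Good setup state10 :=
    BitClosure.Good.run hrw ops9 ops9_ok g9 seg9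
  have g11 : BitClosure.Good setup state11 :=
    BitClosure.Good.run hrw ops10 ops10_ok g10 seg10
  have g12 : BitClosure.Good setup state12 :=
    BitClosure.Good.run hrw ops11 ops11_ok g11 seg11
  have g13 : BitClosure.Good setup state13 :=
    BitClosure.Good.run hrw ops12 ops12_ok g12 seg12
  exact g13

/-- The number of cosets. -/
abbrev N : ℕ := 306936

theorem le_S : N ≤ S := by norm_num

theorem fullMask_eq : fullMask = 2 ^ N - 1 := Nat.eq_of_beq_eq_true (by decide +kernel)

theorem state13_R : state13.R = 2 ^ N - 1 := by rw [state13, fullMask_eq]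

theorem state13_K {g : ℕ} (hg : g < 12) : state13.K.getD g 0 = 2 ^ N - 1 := by
  rw [state13, List.getD_eq_getElem _ _ (by rw [List.length_replicate]; exact hg), List.getElem_replicate,
    fullMask_eq]

theorem exists_cosets : ∃ e : Fin N ≃ Fi24 ⧸ hSub, (∀ i, setup.point (e i) = Fin.castLE le_S i) ∧
    ∀ g, g < 12 → ∀ i j : Fin N, hom (gen g) (Fin.castLE le_S i) = Fin.castLE le_S j → gen g • e i = e j :=
  good13.final le_S state13_R (fun _ hg => state13_K hg) gen_closure

theorem index_hSub : hSub.index = N := by
  obtain ⟨e, -, -⟩ := exists_cosets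
  exact card_quotient_of_equiv e

end Cfsg.Agent.Presented.Fi24Cosets
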