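import Cfsg.Agent.Lib.Presented.BitNet
import Cfsg.Agent.Lib.Presented.Fi24.Net0
import Cfsg.Agent.Lib.Presented.Fi24.Net1
import Cfsg.Agent.Lib.Presented.Fi24.Net2
import Cfsg.Agent.Lib.Presented.Fi24.Net3
import Cfsg.Agent.Lib.Presented.Fi24.Net4
import Cfsg.Agent.Lib.Presented.Fi24.Net5
import Cfsg.Agent.Lib.Presented.Fi24.Net6
import Cfsg.Agent.Lib.Presented.Fi24.Net7
import Cfsg.Agent.Lib.Presented.Fi24.Net8
import Cfsg.Agent.Lib.Presented.Fi24.Net9
import Cfsg.Agent.Lib.Presented.Fi24.Net10
import Cfsg.Agent.Lib.Presented.Fi24.Net11

/-! Generated: the twelve networks on the cosets in Fi24, and their checks. -/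

set_option autoImplicit false

namespace Cfsg.Agent.Presented.Fi24Table

/-- The networks of the generators `l k a b c d e f g j h i`. -/
noncomputable def nets : List (List (ℕ × ℕ)) := [net0, net1, net2, net3, net4, net5, net6, net7, net8, net9, net10, net11]

theorem net0_ok : net0.all (BitNet.stageOK 524288) = true := by decide +kernel

theorem net1_ok : net1.all (BitNet.stageOK 524288) = true := by decide +kernel

theorem net2_ok : net2.all (BitNet.stageOK 524288) = true := by decide +kernel

theorem net3_ok : net3.all (BitNet.stageOK 524288) = true := by decide +kernel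

theorem net4_ok : net4.all (BitNet.stageOK 524288) = true := by decide +kernel

theorem net5_ok : net5.all (BitNet.stageOK 524288) = true := by decide +kernel

theorem net6_ok : net6.all (BitNet.stageOK 524288) = true := by decide +kernel

theorem net7_ok : net7.all (BitNet.stageOK 524288) = true := by decide +kernel

theorem net8_ok : net8.all (BitNet.stageOK 524288) = true := by decide +kernel

theorem net9_ok : net9.all (BitNet.stageOK 524288) = true := by decide +kernel

theorem net10_ok : net10.all (BitNet.stageOK 524288) = true := by decide +kernel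

theorem net11_ok : net11.all (BitNet.stageOK 524288) = true := by decide +kernel

theorem nets_ok : nets.all (fun n => n.all (BitNet.stageOK (2 ^ 19))) = true := by
  rw [show (2 : ℕ) ^ 19 = 524288 from rfl]
  simp only [nets, List.all_cons, List.all_nil, net0_ok, net1_ok, net2_ok, net3_ok, net4_ok, net5_ok, net6_ok, net7_ok, net8_ok, net9_ok, net10_ok, net11_ok, Bool.and_self]

end Cfsg.Agent.Presented.Fi24Table
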