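import Cfsg.Agent.Lib.Presented.BitPerm
import Cfsg.Agent.Lib.Presented.Fi24.Nets
import Cfsg.Agent.Lib.Presented.Fi24.Rels

/-! Generated: the relators of Fi24 fix the planes 0 to 4 of the identity vector. -/

set_option autoImplicit false
set_option maxRecDepth 100000
set_option Elab.async false

namespace Cfsg.Agent.Presented.Fi24Table

open BitPerm (planeOK)

theorem short0 : planeOK 19 nets (relNine :: relsShort) 0 = true := by decide +kernel

theorem long0 : planeOK 19 nets [relSeventeen] 0 = true := by decide +kernel

theorem short1 : planeOK 19 nets (relNine :: relsShort) 1 = true := by decide +kernel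

theorem long1 : planeOK 19 nets [relSeventeen] 1 = true := by decide +kernel

theorem short2 : planeOK 19 nets (relNine :: relsShort) 2 = true := by decide +kernel

theorem long2 : planeOK 19 nets [relSeventeen] 2 = true := by decide +kernel

theorem short3 : planeOK 19 nets (relNine :: relsShort) 3 = true := by decide +kernel

theorem long3 : planeOK 19 nets [relSeventeen] 3 = true := by decide +kernel

theorem short4 : planeOK 19 nets (relNine :: relsShort) 4 = true := by decide +kernel

theorem long4 : planeOK 19 nets [relSeventeen] 4 = true := by decide +kernel

end Cfsg.Agent.Presented.Fi24Table
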