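import Cfsg.Agent.Lib.Presented.BitPerm
import Cfsg.Agent.Lib.Presented.Fi24.Nets
import Cfsg.Agent.Lib.Presented.Fi24.Rels

/-! Generated: the relators of Fi24 fix the planes 5 to 9 of the identity vector. -/

set_option autoImplicit false
set_option maxRecDepth 100000
set_option Elab.async false

namespace Cfsg.Agent.Presented.Fi24Table

open BitPerm (planeOK)

theorem short5 : planeOK 19 nets (relNine :: relsShort) 5 = true := by decide +kernel

theorem long5 : planeOK 19 nets [relSeventeen] 5 = true := by decide +kernel

theorem short6 : planeOK 19 nets (relNine :: relsShort) 6 = true := by decide +kernel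

theorem long6 : planeOK 19 nets [relSeventeen] 6 = true := by decide +kernel

theorem short7 : planeOK 19 nets (relNine :: relsShort) 7 = true := by decide +kernel

theorem long7 : planeOK 19 nets [relSeventeen] 7 = true := by decide +kernel

theorem short8 : planeOK 19 nets (relNine :: relsShort) 8 = true := by decide +kernel

theorem long8 : planeOK 19 nets [relSeventeen] 8 = true := by decide +kernel

theorem short9 : planeOK 19 nets (relNine :: relsShort) 9 = true := by decide +kernel

theorem long9 : planeOK 19 nets [relSeventeen] 9 = true := by decide +kernel

end Cfsg.Agent.Presented.Fi24Table
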