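import Cfsg.Agent.Lib.Presented.BitPerm
import Cfsg.Agent.Lib.Presented.Fi24.Nets
import Cfsg.Agent.Lib.Presented.Fi24.Rels

/-! Generated: the relators of Fi24 fix the planes 10 to 14 of the identity vector. -/

set_option autoImplicit false
set_option maxRecDepth 100000
set_option Elab.async false

namespace Cfsg.Agent.Presented.Fi24Table

open BitPerm (planeOK)

theorem short10 : planeOK 19 nets (relNine :: relsShort) 10 = true := by decide +kernel

theorem long10 : planeOK 19 nets [relSeventeen] 10 = true := by decide +kernel

theorem short11 : planeOK 19 nets (relNine :: relsShort) 11 = true := by decide +kernel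

theorem long11 : planeOK 19 nets [relSeventeen] 11 = true := by decide +kernel

theorem short12 : planeOK 19 nets (relNine :: relsShort) 12 = true := by decide +kernel

theorem long12 : planeOK 19 nets [relSeventeen] 12 = true := by decide +kernel

theorem short13 : planeOK 19 nets (relNine :: relsShort) 13 = true := by decide +kernel

theorem long13 : planeOK 19 nets [relSeventeen] 13 = true := by decide +kernel

theorem short14 : planeOK 19 nets (relNine :: relsShort) 14 = true := by decide +kernel

theorem long14 : planeOK 19 nets [relSeventeen] 14 = true := by decide +kernel

end Cfsg.Agent.Presented.Fi24Table
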