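import Cfsg.Agent.Lib.Presented.Fi24.Nets
import Cfsg.Agent.Lib.Presented.Fi24.Rels
import Cfsg.Agent.Lib.Presented.Fi24.Init
import Cfsg.Agent.Lib.Presented.Fi24.State11
import Cfsg.Agent.Lib.Presented.Fi24.State12

/-! Generated: steps 11 of closing the table of cosets in Fi24. -/

set_option autoImplicit false
set_option maxRecDepth 100000

namespace Cfsg.Agent.Presented.Fi24Table

open BitClosure (St Op)

/-- Steps. -/
def ops11_0 : List Op :=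
  [.rel 38 0,
   .rel 38 1,
   .rel 45 0,
   .rel 45 1,
   .rel 51 0,
   .rel 51 1,
   .rel 56 0,
   .rel 56 1,
   .rel 60 0,
   .rel 60 1,
   .rel 49 0,
   .rel 49 1,
   .rel 65 0,
   .rel 65 1,
   .rel 31 0,
   .rel 31 1,
   .rel 33 0,
   .rel 46 0,
   .rel 46 1,
   .rel 50 0,
   .rel 57 0,
   .rel 1 0,
   .rel 1 1,
   .rel 3 0,
   .rel 3 1,
   .rel 5 0,
   .rel 5 1,
   .rel 22 0,
   .rel 22 1,
   .rel 7 0,
   .rel 7 1,
   .rel 24 0,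
   .rel 24 1,
   .rel 9 0,
   .rel 9 1,
   .rel 26 0,
   .rel 26 1,
   .rel 39 0,
   .rel 39 1,
   .rel 28 0,
   .rel 28 1,
   .rel 41 0,
   .rel 41 1,
   .rel 43 0,
   .rel 43 1,
   .rel 52 0,
   .rel 52 1,
   .rel 54 0,
   .rel 54 1,
   .rel 61 0,
   .rel 61 1,
   .rel 2 0,
   .rel 2 1,
   .rel 4 0,
   .rel 4 1,
   .rel 6 0,
   .rel 6 1,
   .rel 8 0,
   .rel 8 1,
   .rel 10 0,
   .rel 10 1,
   .rel 23 0,
   .rel 25 0,
   .rel 25 1,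
   .rel 13 1,
   .rel 40 0,
   .rel 40 1,
   .rel 42 0,
   .rel 42 1,
   .rel 44 0,
   .rel 44 1,
   .rel 15 1,
   .rel 32 0,
   .rel 32 1,
   .rel 53 0,
   .rel 53 1,
   .rel 55 0,
   .rel 55 1,
   .rel 34 0,
   .rel 34 1,
   .rel 47 0,
   .rel 47 1,
   .rel 62 0,
   .rel 36 1,
   .rel 58 0,
   .rel 58 1,
   .rel 0 0,
   .rel 0 1,
   .rel 30 1,
   .rel 38 0,
   .rel 38 1,
   .rel 45 0,
   .rel 45 1,
   .rel 51 0,
   .rel 56 0,
   .rel 49 0,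
   .rel 49 1,
   .rel 65 0,
   .rel 20 1,
   .rel 31 0]

/-- Steps. -/
def ops11_1 : List Op :=
  [.rel 46 0,
   .rel 50 0,
   .rel 59 1,
   .rel 1 0,
   .rel 1 1,
   .rel 3 0,
   .rel 3 1,
   .rel 5 0,
   .rel 5 1,
   .rel 22 0,
   .rel 7 0,
   .rel 7 1,
   .rel 24 0,
   .rel 24 1,
   .rel 9 0,
   .rel 9 1,
   .rel 26 0,
   .rel 39 0,
   .rel 39 1,
   .rel 28 0,
   .rel 41 0,
   .rel 41 1,
   .rel 43 0,
   .rel 52 0,
   .rel 52 1,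
   .rel 54 0,
   .rel 61 0,
   .rel 2 0,
   .rel 2 1,
   .rel 4 0,
   .rel 6 0,
   .rel 6 1,
   .rel 8 1,
   .rel 23 0,
   .rel 15 1,
   .rel 32 0,
   .rel 0 1,
   .rel 11 0,
   .rel 30 1,
   .rel 38 1,
   .rel 3 0,
   .rel 3 1,
   .rel 5 0,
   .rel 5 1,
   .rel 22 0,
   .rel 22 1,
   .rel 7 1,
   .rel 24 0,
   .rel 24 1,
   .rel 9 1,
   .rel 43 0,
   .rel 10 1,
   .rel 15 0,
   .rel 41 0,
   .rel 26 0,
   .rel 2 1,
   .rel 23 0,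
   .rel 25 0,
   .rel 13 0,
   .rel 44 0,
   .rel 55 1,
   .rel 30 0,
   .rel 22 1,
   .rel 24 1,
   .rel 43 0,
   .rel 32 1,
   .rel 39 1,
   .rel 54 1,
   .rel 54 0,
   .rel 15 1,
   .rel 11 0,
   .rel 45 0,
   .rel 12 1,
   .rel 20 1,
   .rel 5 1,
   .rel 24 1,
   .rel 39 0,
   .rel 24 0,
   .rel 61 1,
   .rel 51 1,
   .rel 29 1,
   .rel 40 0,
   .rel 47 0,
   .rel 12 0,
   .rel 39 0,
   .rel 41 0,
   .rel 13 1,
   .rel 38 1,
   .rel 49 0,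
   .rel 22 1,
   .rel 39 0,
   .rel 30 0,
   .rel 28 0,
   .rel 15 1,
   .rel 38 0,
   .rel 45 0,
   .rel 18 1,
   .rel 46 1,
   .rel 39 0,
   .rel 43 0]

/-- Steps. -/
def ops11_2 : List Op :=
  [.rel 13 0,
   .rel 44 0,
   .rel 8 1,
   .rel 19 0,
   .rel 28 1,
   .rel 13 0,
   .rel 6 0,
   .rel 55 1,
   .rel 30 0,
   .rel 38 1,
   .rel 46 0,
   .rel 5 1,
   .rel 40 1,
   .rel 21 0,
   .rel 38 0,
   .rel 39 0,
   .rel 43 0,
   .rel 30 0,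
   .rel 21 0,
   .rel 31 0,
   .rel 29 1,
   .rel 32 0,
   .rel 36 1,
   .rel 45 1,
   .rel 14 0,
   .rel 19 0,
   .rel 38 1,
   .rel 49 1,
   .rel 65 1,
   .rel 51 1,
   .rel 16 1,
   .rel 33 0,
   .rel 34 0,
   .rel 35 0,
   .rel 70 6,
   .rel 22 0,
   .rel 24 0,
   .rel 26 0,
   .rel 29 0,
   .rel 28 0,
   .rel 25 0,
   .rel 24 0,
   .rel 26 0,
   .rel 23 0,
   .rel 21 0,
   .rel 21 1,
   .rel 30 1,
   .rel 12 1,
   .rel 31 1,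
   .rel 22 0,
   .rel 22 1,
   .rel 24 0,
   .rel 24 1,
   .rel 39 0,
   .rel 28 0,
   .rel 28 1,
   .rel 43 0,
   .rel 43 1,
   .rel 2 1,
   .rel 4 1,
   .rel 23 0,
   .rel 23 1,
   .rel 27 0,
   .rel 13 1,
   .rel 11 1]

/-- The steps of segment 11. -/
def ops11 : List Op :=
  ops11_0 ++ ops11_1 ++ ops11_2

theorem ops11_ok : BitClosure.opsOK 12 ops11 = true := by decide +kernel

theorem seg11 : BitClosure.eqSt (BitClosure.run nets closureRels ops11 state11) state12 = true := by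
  decide +kernel

end Cfsg.Agent.Presented.Fi24Table
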