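import Cfsg.Agent.Lib.Presented.Fi24.Base
import Cfsg.Agent.Lib.Presented.Fi24.Nets
import Cfsg.Agent.Lib.Presented.Fi24.Plane0
import Cfsg.Agent.Lib.Presented.Fi24.Plane1
import Cfsg.Agent.Lib.Presented.Fi24.Plane2
import Cfsg.Agent.Lib.Presented.Fi24.Plane3

/-!
# The action of Fi24 on `2 ^ 19` points

`hom` sends the generators to the permutations of the twelve networks; `setup` is the datum for closing the
table of cosets of the subgroup generated by all generators but `k`.
-/

set_option autoImplicit false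

namespace Cfsg.Agent.Presented.Fi24Setup

open Cfsg.Spor Cfsg.Agent.Presented Fi24Table Fi24Base


/-- The number of points. -/
abbrev S : ℕ := 2 ^ 19

theorem planes_ok : ∀ j, j < 19 →
    BitPerm.planeOK 19 nets (relNine :: relsShort) j = true ∧
      BitPerm.planeOK 19 nets [relSeventeen] j = true := by
  intro j hj
  interval_cases j
  exacts [⟨short0, long0⟩, ⟨short1, long1⟩, ⟨short2, long2⟩, ⟨short3, long3⟩, ⟨short4, long4⟩,
    ⟨short5, long5⟩, ⟨short6, long6⟩, ⟨short7, long7⟩, ⟨short8, long8⟩, ⟨short9, long9⟩,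
    ⟨short10, long10⟩, ⟨short11, long11⟩, ⟨short12, long12⟩, ⟨short13, long13⟩, ⟨short14, long14⟩,
    ⟨short15, long15⟩, ⟨short16, long16⟩, ⟨short17, long17⟩, ⟨short18, long18⟩]

theorem perms_rel : ∀ w ∈ relNine :: relsShort ++ [relSeventeen], wval (BitNet.perms (S := S) nets) w = 1 := by
  intro w hw
  refine BitPerm.wval_eq_one nets_ok fun j hj => ?_
  rcases List.mem_append.mp hw with h | h
  · exact BitPerm.planeOK_spec (planes_ok j hj).1 w h
  · exact BitPerm.planeOK_spec (planes_ok j hj).2 w h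

theorem perms_sq (g : ℕ) (hg : g < gens.length) : BitNet.perms (S := S) nets g * BitNet.perms (S := S) nets g = 1 := by
  have hm : [g, g] ∈ relNine :: relsShort ++ [relSeventeen] := by
    have : ∀ g, g < 12 → [g, g] ∈ relNine :: relsShort ++ [relSeventeen] := by decide +kernel
    exact this g hg
  simpa [wval] using perms_rel _ hm

theorem rels_cover : BitPerm.coverOK gens Fi24.edges Fi24.extra (relNine :: relsShort ++ [relSeventeen]) = true := by
  decide +kernel

theorem exists_hom : ∃ φ : Fi24 →* Equiv.Perm (Fin S), ∀ g, g < 12 → φ (gen g) = BitNet.perms nets g :=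
  BitPerm.exists_famHom (BitNet.perms (S := S) nets) gens_all gens_nodup perms_sq rels_cover perms_rel

/-- The action. -/
noncomputable def hom : Fi24 →* Equiv.Perm (Fin S) := exists_hom.choose

theorem hom_gen {g : ℕ} (hg : g < 12) : hom (gen g) = BitNet.perms nets g := exists_hom.choose_spec g hg

/-- The numbers of the generators other than `k`. -/
def hIdx : List ℕ := [0, 2, 3, 4, 5, 6, 7, 8, 9, 10, 11]

/-- The subgroup generated by all generators but `k`. -/
noncomputable def hSub : Subgroup Fi24 := Subgroup.closure {x | ∃ g ∈ hIdx, x = gen g}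

/-- The base point. -/
def base : Fin S := ⟨306912, by norm_num⟩

theorem base_fixed : ∀ g ∈ hIdx, BitNet.pos (nets.getD g []) 306912 = 306912 := by decide +kernel

theorem hom_fix {h : Fi24} (hh : h ∈ hSub) : hom h base = base := by
  induction hh using Subgroup.closure_induction with
  | mem x hx =>
    obtain ⟨g, hg, rfl⟩ := hx
    have hb : ∀ g ∈ hIdx, g < 12 := by decide
    refine Fin.ext ?_
    rw [hom_gen (hb g hg), BitNet.perms_apply nets_ok]
    exact base_fixed g hg
  | one => rw [map_one]; rfl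
  | mul a b _ _ iha ihb => rw [map_mul, Equiv.Perm.mul_apply, ihb, iha]
  | inv a _ iha => rw [map_inv, Equiv.Perm.inv_eq_iff_eq, iha]

/-- The datum of the closure. -/
noncomputable def setup : BitClosure.Setup Fi24 S where
  m := 12
  nets := nets
  nets_ok := nets_ok
  s := gen
  H := hSub
  φ := hom
  hφ _ hg := hom_gen hg
  hs g _ := gen_sq g
  z := base
  fix _ hh := hom_fix hh

theorem gen_closure : Subgroup.closure (gen '' {g | g < 12}) = (⊤ : Subgroup Fi24) := by
  rw [eq_top_iff, ← PresentedGroup.closure_range_of, Subgroup.closure_le]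
  rintro _ ⟨x, rfl⟩
  exact Subgroup.subset_closure
    ⟨gens.idxOf x, List.idxOf_lt_length_of_mem (gens_all x), genFun_idxOf gens_all x⟩

/-- The subgroup in the form of the statements. -/
theorem hSub_eq : hSub = (Subgroup.closure ({Fi24.a, Fi24.b, Fi24.c, Fi24.d, Fi24.e, Fi24.f, Fi24.g, Fi24.h,
    Fi24.i, Fi24.j, Fi24.l} : Set (FreeGroup Fi24.Gen))).map
      (PresentedGroup.mk (coxRelators Fi24.edges ∪ {r | r ∈ Fi24.extra})) := by
  have hset : ({Fi24.a, Fi24.b, Fi24.c, Fi24.d, Fi24.e, Fi24.f, Fi24.g, Fi24.h, Fi24.i, Fi24.j, Fi24.l} :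
      Set (FreeGroup Fi24.Gen)) = {x | x ∈ [Fi24.l, Fi24.a, Fi24.b, Fi24.c, Fi24.d, Fi24.e, Fi24.f, Fi24.g,
        Fi24.j, Fi24.h, Fi24.i]} := by
    ext x
    simp only [Set.mem_insert_iff, Set.mem_singleton_iff, Set.mem_setOf_eq, List.mem_cons, List.not_mem_nil,
      or_false]
    tauto
  rw [hset, map_closure_eq_wval gens_all gens_ok, hSub,
    show ([Fi24.l, Fi24.a, Fi24.b, Fi24.c, Fi24.d, Fi24.e, Fi24.f, Fi24.g, Fi24.j, Fi24.h, Fi24.i].map
      (letters gens)) = hIdx.map fun g => [g] by decide +kernel]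
  congr 1
  ext x
  simp only [Set.mem_setOf_eq, List.mem_map]
  constructor
  · rintro ⟨g, hg, rfl⟩
    exact ⟨[g], ⟨g, hg, rfl⟩, (one_mul _).symm⟩
  · rintro ⟨k, ⟨g, hg, rfl⟩, rfl⟩
    exact ⟨g, hg, one_mul _⟩

end Cfsg.Agent.Presented.Fi24Setup
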